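import Mathlib
import Groth.Prelude.Def_Bivar
import Groth.Agent.CycCommLib.RatEquiv

/-!
# Chow classes and descent of cycle operations
-/

set_option autoImplicit false
set_option linter.style.haveILetI false
set_option linter.unusedSectionVars false

universe u

open AlgebraicGeometry CategoryTheory

noncomputable section

namespace CycBivLib

variable {X Y : Scheme.{u}} {δ : X → ℤ} {k : ℤ}

theorem cl_eq_cl {α β : AlgebraicCycle X ℤ} (hα : α ∈ Cyc.Zk X δ k) (hβ : β ∈ Cyc.Zk X δ k)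
    (h : Cyc.RatEquiv δ k α β) : ChowOps.cl α hα = ChowOps.cl β hβ := by
  refine (QuotientAddGroup.eq.2 (AddSubgroup.subset_closure ?_)).symm
  show Cyc.RatEquivZero δ k (-β + α)
  rwa [neg_add_eq_sub]

theorem ratEquivZero_of_cl_eq_zero (hX : Cyc.IsSetup X δ) {α : AlgebraicCycle X ℤ} (hα : α ∈ Cyc.Zk X δ k)
    (h : ChowOps.cl α hα = 0) : Cyc.RatEquivZero δ k α := by
  have hmem : (⟨α, hα⟩ : ↥(ChowOps.zk X δ k)) ∈ ChowOps.ratTriv X δ k :=
    (QuotientAddGroup.eq_zero_iff _).1 h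
  rw [ChowOps.ratTriv] at hmem
  exact AddSubgroup.closure_induction
    (p := fun (a : ↥(ChowOps.zk X δ k)) _ => Cyc.RatEquivZero δ k (a : AlgebraicCycle X ℤ))
    (fun a ha => ha) (CycCommLib.ratEquivZero_of_forall_eq_zero fun _ => rfl)
    (fun a b _ _ ha hb => CycCommLib.ratEquivZero_add hX ha hb fun _ => rfl)
    (fun a _ ha => CycCommLib.ratEquivZero_neg hX ha fun _ => rfl) hmem

theorem ratEquiv_of_cl_eq (hX : Cyc.IsSetup X δ) {α β : AlgebraicCycle X ℤ} (hα : α ∈ Cyc.Zk X δ k)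
    (hβ : β ∈ Cyc.Zk X δ k) (h : ChowOps.cl α hα = ChowOps.cl β hβ) : Cyc.RatEquiv δ k α β :=
  ratEquivZero_of_cl_eq_zero hX ((ChowOps.zk X δ k).sub_mem hα hβ)
    (show ChowOps.cl α hα - ChowOps.cl β hβ = 0 by rw [h, sub_self])

/-- An additive operation on cycles killing rationally trivial cycles descends to the Chow group. -/
def descend {A : Type*} [AddCommGroup A] (f : ↥(ChowOps.zk X δ k) →+ A)
    (h : ∀ a : ↥(ChowOps.zk X δ k), Cyc.RatEquivZero δ k (a : AlgebraicCycle X ℤ) → f a = 0) :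
    ChowOps.CH X δ k →+ A :=
  QuotientAddGroup.lift _ f ((AddSubgroup.closure_le _).2 h)

theorem descend_cl {A : Type*} [AddCommGroup A] (f : ↥(ChowOps.zk X δ k) →+ A)
    (h : ∀ a : ↥(ChowOps.zk X δ k), Cyc.RatEquivZero δ k (a : AlgebraicCycle X ℤ) → f a = 0)
    (α : AlgebraicCycle X ℤ) (hα : α ∈ Cyc.Zk X δ k) : descend f h (ChowOps.cl α hα) = f ⟨α, hα⟩ := rfl

end CycBivLib

end
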