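import Mathlib
import Groth.Prelude.Def_C1
import Groth.Prelude.Def_DerSch
import Groth.Agent.CycC1Lib.Sec
import Groth.Agent.MeroLib.RegSec

/-!
# Rational sections and isomorphisms of modules
-/

set_option autoImplicit false
set_option linter.style.haveILetI false
set_option linter.unusedSectionVars false

universe u

open AlgebraicGeometry CategoryTheory

noncomputable section

namespace CycBivLib

open CycC1Lib (fib)

variable {X : Scheme.{u}} {L M N : X.Modules}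

/-- The map on fibres of a morphism of modules. -/
def fibMap (φ : M ⟶ N) (ξ : X) : Cyc.secFibre M ξ →ₗ[X.presheaf.stalk ξ] Cyc.secFibre N ξ :=
  Submodule.mapQ _ _ ((DerSch.stalkFunctor X ξ).map φ).hom <| Submodule.map_le_iff_le_comap.1 <| by
    rw [Submodule.map_smul'']
    exact Submodule.smul_mono le_rfl le_top

theorem fibMap_fib (φ : M ⟶ N) (ξ : X) (v : M.presheaf.stalk ξ) :
    fibMap φ ξ (fib M v) = fib N (((DerSch.stalkFunctor X ξ).map φ).hom v) := rfl

theorem fibMap_germ (φ : M ⟶ N) {U : X.Opens} {ξ : X} (hξ : ξ ∈ U) (e : Γ(M, U)) :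
    fibMap φ ξ (fib M (M.presheaf.germ U ξ hξ e)) = fib N (N.presheaf.germ U ξ hξ (φ.app U e)) :=
  congrArg (fib N) (DerSch.stalkFunctor_map_germ ξ φ U hξ e)

theorem fibMap_hom_inv (φ : M ≅ N) (ξ : X) (s : Cyc.secFibre M ξ) :
    fibMap φ.inv ξ (fibMap φ.hom ξ s) = s := by
  obtain ⟨v, rfl⟩ := Submodule.Quotient.mk_surjective _ s
  refine congrArg (fib M) ?_
  show (((DerSch.stalkFunctor X ξ).map φ.hom ≫ (DerSch.stalkFunctor X ξ).map φ.inv)).hom v = v
  rw [← Functor.map_comp, φ.hom_inv_id, CategoryTheory.Functor.map_id]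
  rfl

theorem fibMap_ne_zero (φ : M ≅ N) {ξ : X} {s : Cyc.secFibre M ξ} (hs : s ≠ 0) : fibMap φ.hom ξ s ≠ 0 :=
  fun h => hs (by rw [← fibMap_hom_inv φ ξ s, h, map_zero])

/-- The divisor of a rational section is invariant under isomorphisms. -/
theorem secDivFun_fibMap {δ : X → ℤ} (hX : Cyc.IsSetup X δ) (hM : PicF.IsInvertible M) (φ : M ≅ N) (ξ : X)
    (s : Cyc.secFibre M ξ) (x : X) :
    Cyc.secDivFun δ N ξ (fibMap φ.hom ξ s) x = Cyc.secDivFun δ M ξ s x := by
  by_cases h : ξ ⤳ x ∧ δ x + 1 = δ ξ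
  swap
  · rw [CycC1Lib.secDivFun_eq_zero_of_not h, CycC1Lib.secDivFun_eq_zero_of_not h]
  obtain ⟨U, e, hxU, he⟩ := TwistLib.exists_genOn hM x
  have hξU := h.1.mem_open U.isOpen hxU
  obtain ⟨c, hc⟩ := CycC1Lib.exists_coord (he.genAt hξU) s
  have hc' : fibMap φ.hom ξ s = c • fib N (N.presheaf.germ U ξ hξU (φ.hom.app U e)) := by
    rw [hc, map_smul, fibMap_germ]
  rw [CycC1Lib.secDivFun_eq_divFun hX he hxU hξU hc,
    CycC1Lib.secDivFun_eq_divFun hX (MeroLib.genOn_iso φ.hom he) hxU hξU hc']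

theorem c1CapFun_fibMap {δ : X → ℤ} (hX : Cyc.IsSetup X δ) (hM : PicF.IsInvertible M) (φ : M ≅ N) (α : X → ℤ)
    (s : (ξ : X) → Cyc.secFibre M ξ) :
    Cyc.c1CapFun δ N α (fun ξ => fibMap φ.hom ξ (s ξ)) = Cyc.c1CapFun δ M α s :=
  funext fun x => finsum_congr fun ξ => by rw [secDivFun_fibMap hX hM φ]

end CycBivLib

end
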