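import Mathlib
import Groth.Prelude.Def_Bivar
import Groth.Agent.CycLimLib.Dim
import Groth.Agent.CatLib.More
import Groth.Agent.CycPushLib.Closed

/-!
# Test schemes inherit setups and induced dimension functions
-/

set_option autoImplicit false
set_option linter.style.haveILetI false
set_option linter.unusedSectionVars false

universe u

open AlgebraicGeometry CategoryTheory

noncomputable section

namespace CycBivLib

variable {X Y Z D : Scheme.{u}} {δX : X → ℤ} {δY : Y → ℤ} {δZ : Z → ℤ}

/-- Induced dimension functions can be cancelled on the right. -/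
theorem deltaCompat_cancel (f : X ⟶ Y) (g : Y ⟶ Z) {g' : X ⟶ Z} (w : f ≫ g = g')
    (hg : Cyc.DeltaCompat g δY δZ) (hfg : Cyc.DeltaCompat g' δX δZ) : Cyc.DeltaCompat f δX δY := by
  subst w
  intro x
  obtain ⟨n, hn, hδn⟩ := hfg x
  obtain ⟨m, hm, hδm⟩ := hg (f x)
  let algYX : Algebra (Y.residueField (f x)) (X.residueField x) := (f.residueFieldMap x).hom.toAlgebra
  let algZY : Algebra (Z.residueField (g (f x))) (Y.residueField (f x)) :=
    (g.residueFieldMap (f x)).hom.toAlgebra
  let algZX : Algebra (Z.residueField (g (f x))) (X.residueField x) :=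
    ((f ≫ g).residueFieldMap x).hom.toAlgebra
  have hST : IsScalarTower (Z.residueField (g (f x))) (Y.residueField (f x)) (X.residueField x) :=
    IsScalarTower.of_algebraMap_eq' (by
      change ((f ≫ g).residueFieldMap x).hom = (f.residueFieldMap x).hom.comp (g.residueFieldMap (f x)).hom
      rw [Scheme.residueFieldMap_comp]; rfl)
  have h1 : FaithfulSMul (Z.residueField (g (f x))) (Y.residueField (f x)) :=
    (faithfulSMul_iff_algebraMap_injective _ _).mpr (RingHom.injective _)
  have h2 : FaithfulSMul (Y.residueField (f x)) (X.residueField x) :=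
    (faithfulSMul_iff_algebraMap_injective _ _).mpr (RingHom.injective _)
  have key := trdeg_add_eq (Z.residueField (g (f x))) (Y.residueField (f x)) (A := X.residueField x)
  change Algebra.trdeg (Z.residueField (g (f x))) (X.residueField x) = _ at hn
  rw [← key, hm] at hn
  obtain ⟨a, ha⟩ := Cardinal.lt_aleph0.1
    ((le_add_self.trans hn.le).trans_lt (Cardinal.natCast_lt_aleph0 (n := n)))
  refine ⟨a, ha, ?_⟩
  rw [ha] at hn
  have hn' : m + a = n := by exact_mod_cast hn
  rw [Scheme.Hom.comp_apply] at hδn
  omega

/-- A scheme locally of finite type over a setup is a setup. -/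
theorem isSetup_of_lft (g : Y ⟶ X) [LocallyOfFiniteType g] (hX : Cyc.IsSetup X δX)
    (hg : Cyc.DeltaCompat g δY δX) : Cyc.IsSetup Y δY := by
  haveI := hX.1
  refine ⟨LocallyOfFiniteType.isLocallyNoetherian g, fun y => ?_, CycLimLib.isDimFun_of_deltaCompat g hX hg⟩
  letI := (g.stalkMap y).hom.toAlgebra
  haveI : Algebra.EssFiniteType (X.presheaf.stalk (g y)) (Y.presheaf.stalk y) := LocallyOfFiniteType.stalkMap g y
  exact CatLib.isUniversallyCatenary_of_essFiniteType (X.presheaf.stalk (g y)) (Y.presheaf.stalk y) (hX.2.1 (g y))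

/-- Along a closed immersion the induced dimension function is the restriction. -/
theorem deltaCompat_immersion_eq (i : Y ⟶ X) [IsPreimmersion i] (h : Cyc.DeltaCompat i δY δX) :
    δY = fun d => δX (i d) := by
  funext d
  obtain ⟨n, hn, hd⟩ := h d
  have hn' : (n : Cardinal) = 0 := hn.symm.trans (CycPushLib.trdeg_preimmersion_left i d)
  have : n = 0 := by exact_mod_cast hn'
  simp [hd, this]

end CycBivLib

end
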