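import Mathlib
import Groth.Prelude.Def_Bivar
import Groth.Agent.CycBivLib.Setup
import Groth.Agent.CycBivLib.Chow
import Groth.Agent.CycBivLib.IsoInv
import Groth.Agent.CycC1Lib.Pull
import Groth.Agent.CycC1Lib.Push
import Groth.Agent.CycCommLib.Gysin
import Groth.Agent.AmpleDevLib.Pull

/-!
# The first Chern class as an operational class
-/

set_option autoImplicit false
set_option linter.style.haveILetI false
set_option linter.unusedSectionVars false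

universe u

open AlgebraicGeometry CategoryTheory

noncomputable section

namespace CycBivLib

variable {X : Scheme.{u}} {δ : X → ℤ}

/-- A nowhere-zero family of rational sections. -/
theorem exists_sections {L : X.Modules} (hL : PicF.IsInvertible L) :
    ∃ v : (ξ : X) → Cyc.secFibre L ξ, ∀ ξ, v ξ ≠ 0 := by
  obtain ⟨Φ⟩ := CycCommLib.exists_frames hL
  exact ⟨Φ.sec, Φ.sec_ne_zero⟩

/-- The cap with the first Chern class on cycles with values in the Chow group. -/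
def capHom (hX : Cyc.IsSetup X δ) {L : X.Modules} (hL : PicF.IsInvertible L)
    {v : (ξ : X) → Cyc.secFibre L ξ} (hv : ∀ ξ, v ξ ≠ 0) (k : ℤ) :
    ↥(ChowOps.zk X δ k) →+ ChowOps.CH X δ (k - 1) :=
  AddMonoidHom.mk' (fun a => ChowOps.cl (CycC1Lib.capCyc hX hL a.1 hv)
      (CycCommLib.capCyc_mem_Zk hX hL (by rw [sub_add_cancel]; exact a.2) hv)) fun a b => by
    rw [← Bivar.cl_add]
    exact Bivar.cl_congr (Function.locallyFinsuppWithin.ext fun x =>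
      congrFun (Bivar.c1CapFun_add δ L a.1 b.1 v) x) _ _

theorem capHom_eq_zero (hX : Cyc.IsSetup X δ) {L : X.Modules} (hL : PicF.IsInvertible L)
    {v : (ξ : X) → Cyc.secFibre L ξ} (hv : ∀ ξ, v ξ ≠ 0) (k : ℤ) (a : ↥(ChowOps.zk X δ k))
    (h : Cyc.RatEquivZero δ k (a : AlgebraicCycle X ℤ)) : capHom hX hL hv k a = 0 := by
  refine (cl_eq_cl _ (ChowOps.zk X δ (k - 1)).zero_mem ?_).trans Bivar.cl_zero
  show Cyc.RatEquivZero δ (k - 1) (_ - 0)
  rw [sub_zero]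
  exact CycCommLib.c1Cap_ratEquivZero hX hL (by rw [sub_add_cancel]; exact a.2)
    (by rw [sub_add_cancel]; exact h) hv rfl

/-- The cap with the first Chern class on Chow groups. -/
def capCH (hX : Cyc.IsSetup X δ) {L : X.Modules} (hL : PicF.IsInvertible L)
    {v : (ξ : X) → Cyc.secFibre L ξ} (hv : ∀ ξ, v ξ ≠ 0) (k : ℤ) :
    ChowOps.CH X δ k →+ ChowOps.CH X δ (k - 1) :=
  descend (capHom hX hL hv k) (capHom_eq_zero hX hL hv k)

theorem capCH_cl (hX : Cyc.IsSetup X δ) {L : X.Modules} (hL : PicF.IsInvertible L)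
    {v : (ξ : X) → Cyc.secFibre L ξ} (hv : ∀ ξ, v ξ ≠ 0) (k : ℤ) (α : AlgebraicCycle X ℤ)
    (hα : α ∈ Cyc.Zk X δ k) {s : (ξ : X) → Cyc.secFibre L ξ} (hs : ∀ ξ, s ξ ≠ 0) (γ : AlgebraicCycle X ℤ)
    (hγ : ⇑γ = Cyc.c1CapFun δ L ⇑α s) (hγm : γ ∈ Cyc.Zk X δ (k - 1)) :
    capCH hX hL hv k (ChowOps.cl α hα) = ChowOps.cl γ hγm :=
  cl_eq_cl _ _ (CycC1Lib.ratEquiv_c1Cap hX hL α (by rw [sub_add_cancel]; exact hα) hv hs _ γ rfl hγ)

variable {δX : X → ℤ} (hX : Cyc.IsSetup X δX) {L : X.Modules} (hL : PicF.IsInvertible L)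

theorem sq_isSetup (hX : Cyc.IsSetup X δX) (s : Bivar.OSq X δX) : Cyc.IsSetup s.Y s.δ :=
  haveI := s.lft
  isSetup_of_lft s.g hX s.compat

theorem pb_invertible {Y : Scheme.{u}} (g : Y ⟶ X) (hL : PicF.IsInvertible L) :
    PicF.IsInvertible ((Scheme.Modules.pullback g).obj L) := AmpleDevLib.isInvertible_pb g hL

/-- Pullback along a composite. -/
def sqIso {Y Z : Scheme.{u}} (h : Z ⟶ Y) (g : Y ⟶ X) {g' : Z ⟶ X} (w : h ≫ g = g') (L : X.Modules) :
    (Scheme.Modules.pullback g').obj L ≅ (Scheme.Modules.pullback h).obj ((Scheme.Modules.pullback g).obj L) :=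
  ((Scheme.Modules.pullbackCongr w.symm).app L) ≪≫ ((Scheme.Modules.pullbackComp h g).app L).symm

/-- The chosen sections on a test scheme. -/
def sqSec (hL : PicF.IsInvertible L) (s : Bivar.OSq X δX) (ξ : s.Y) :
    Cyc.secFibre ((Scheme.Modules.pullback s.g).obj L) ξ :=
  (exists_sections (pb_invertible s.g hL)).choose ξ

theorem sqSec_ne_zero (hL : PicF.IsInvertible L) (s : Bivar.OSq X δX) (ξ : s.Y) : sqSec hL s ξ ≠ 0 :=
  (exists_sections (pb_invertible s.g hL)).choose_spec ξ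

/-- The operation of the first Chern class. -/
def c1Op (s : Bivar.OSq X δX) (k : ℤ) : ChowOps.CH s.Y s.δ k →+ ChowOps.CH s.Y s.δ (k - 1) :=
  capCH (sq_isSetup hX s) (pb_invertible s.g hL) (sqSec_ne_zero hL s) k

/-- The representative of the first Chern class. -/
def c1Rep (s : Bivar.OSq X δX) (α : AlgebraicCycle s.Y ℤ) : AlgebraicCycle s.Y ℤ :=
  CycC1Lib.capCyc (sq_isSetup hX s) (pb_invertible s.g hL) α (sqSec_ne_zero hL s)

theorem c1Rep_mem (s : Bivar.OSq X δX) {k : ℤ} {α : AlgebraicCycle s.Y ℤ} (hα : α ∈ Cyc.Zk s.Y s.δ k) :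
    c1Rep hX hL s α ∈ Cyc.Zk s.Y s.δ (k - 1) :=
  CycCommLib.capCyc_mem_Zk (sq_isSetup hX s) (pb_invertible s.g hL) (by rw [sub_add_cancel]; exact hα)
    (sqSec_ne_zero hL s)

theorem c1Op_cl (s : Bivar.OSq X δX) (k : ℤ) (α : AlgebraicCycle s.Y ℤ) (hα : α ∈ Cyc.Zk s.Y s.δ k) :
    c1Op hX hL s k (ChowOps.cl α hα) = ChowOps.cl (c1Rep hX hL s α) (c1Rep_mem hX hL s hα) := rfl

theorem c1_push (s t : Bivar.OSq X δX) (h : t.Y ⟶ s.Y) [IsProper h] (w : h ≫ s.g = t.g) (k : ℤ) :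
    Bivar.PushOK t.δ t.δ s.δ s.δ h h (c1Op hX hL t k) (c1Op hX hL s k) := by
  intro α hα
  refine ⟨c1Rep hX hL t α, c1Rep_mem hX hL t hα, c1Op_cl hX hL t k α hα, ?_⟩
  rw [c1Op_cl]
  refine (cl_eq_cl _ _ ?_).symm
  exact CycC1Lib.ratEquiv_push_c1Cap (sq_isSetup hX t) (sq_isSetup hX s) h
    (deltaCompat_cancel h s.g w s.compat t.compat) (pb_invertible s.g hL)
    (AmpleDevLib.isInvertible_pb h (pb_invertible s.g hL)) α (by rw [sub_add_cancel]; exact hα)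
    (u := fun ξ => fibMap (sqIso h s.g w L).hom ξ (sqSec hL t ξ))
    (fun ξ => fibMap_ne_zero (sqIso h s.g w L) (sqSec_ne_zero hL t ξ)) (sqSec_ne_zero hL s) _
    (c1CapFun_fibMap (sq_isSetup hX t) (pb_invertible t.g hL) (sqIso h s.g w L) ⇑α (sqSec hL t)).symm _ rfl

theorem c1_pull (s t : Bivar.OSq X δX) (h : t.Y ⟶ s.Y) [Flat h] (r : ℕ) (hr : Cyc.HasRelDim h r)
    (w : h ≫ s.g = t.g) (k : ℤ) :
    Bivar.PullOK s.δ s.δ t.δ t.δ h h (r : ℤ) (c1Op hX hL s k) (c1Op hX hL t (k + r)) := by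
  intro α hα
  refine ⟨c1Rep hX hL s α, c1Rep_mem hX hL s hα, c1Op_cl hX hL s k α hα, fun α₁ hc hα₁ => ?_⟩
  haveI := s.lft
  haveI := t.lft
  haveI : LocallyOfFiniteType (h ≫ s.g) := w ▸ t.lft
  haveI : LocallyOfFiniteType h := locallyOfFiniteType_of_comp h s.g
  have hδ := deltaCompat_cancel h s.g w s.compat t.compat
  have hgen : ∀ x, CycLimLib.IsGen h x → t.δ x = s.δ (h x) + (r : ℤ) :=
    fun x hx => CycLimLib.delta_eq_of_gen h hδ hr hx
  have hmem : CycC1Lib.pullCyc h (sq_isSetup hX t) hgen (c1Rep hX hL s α) ∈ Cyc.Zk t.Y t.δ (k + r - 1) := by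
    rw [show k + (r : ℤ) - 1 = k - 1 + r by ring]
    exact CycC1Lib.pullCyc_mem_Zk h _ hgen (c1Rep_mem hX hL s hα)
  refine ⟨CycC1Lib.pullCyc h (sq_isSetup hX t) hgen (c1Rep hX hL s α), hmem, rfl, ?_⟩
  rw [c1Op_cl]
  refine (cl_eq_cl _ _ ?_).symm
  refine CycC1Lib.ratEquiv_pull_c1Cap h (sq_isSetup hX t) (sq_isSetup hX s) hgen (pb_invertible s.g hL) α hα
    (sqSec_ne_zero hL s) (u := fun ξ => fibMap (sqIso h s.g w L).hom ξ (sqSec hL t ξ))
    (fun ξ => fibMap_ne_zero (sqIso h s.g w L) (sqSec_ne_zero hL t ξ))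
    (AmpleDevLib.isInvertible_pb h (pb_invertible s.g hL)) _ _ rfl ?_
  rw [← hc]
  exact (c1CapFun_fibMap (sq_isSetup hX t) (pb_invertible t.g hL) (sqIso h s.g w L) ⇑α₁ (sqSec hL t)).symm

theorem c1_gysin (s : Bivar.OSq X δX) (T : Scheme.{u}) (gT : T ⟶ X) (lT : LocallyOfFiniteType gT) (δT : T → ℤ)
    (cT : Cyc.DeltaCompat gT δT δX) (i : T ⟶ s.Y) [IsClosedImmersion i] (w : i ≫ s.g = gT)
    (M : s.Y.Modules) (hM : PicF.IsInvertible M) (σ : M.presheaf.obj (Opposite.op ⊤))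
    (hσ : Cyc.IsZeroSchemeOf i M σ) (k : ℤ) :
    Bivar.GysinOK₁ s.δ δT i M σ (c1Op hX hL s k) (c1Op hX hL ⟨T, gT, lT, δT, cT⟩ (k - 1)) := by
  obtain rfl := deltaCompat_immersion_eq i (deltaCompat_cancel i s.g w s.compat cT)
  intro α hα
  refine ⟨c1Rep hX hL s α, c1Rep_mem hX hL s hα, c1Op_cl hX hL s k α hα, fun v hv γ hγc hγ => ?_⟩
  have hS := sq_isSetup hX s
  let t : Bivar.OSq X δX := ⟨T, gT, lT, fun d => s.δ (i d), cT⟩
  let ζ := CycGysLib.restrictCyc i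
    (CycC1Lib.capCyc hS hM (c1Rep hX hL s α) (CycGysLib.gysinChoice_ne_zero σ hv))
  have hζ : ζ ∈ Cyc.Zk T (fun d => s.δ (i d)) (k - 1 - 1) :=
    CycCommLib.restrictCyc_mem_Zk i (CycCommLib.capCyc_mem_Zk hS hM
      (by rw [sub_add_cancel]; exact c1Rep_mem hX hL s hα) _)
  refine ⟨ζ, hζ, fun _ => rfl, ?_⟩
  rw [c1Op_cl hX hL t (k - 1) γ hγ]
  refine (cl_eq_cl _ _ ?_).symm
  rw [show k - 1 - 1 = k - 2 by ring]
  refine CycCommLib.gysin_cap hS hM hσ (pb_invertible s.g hL) α hα hv (sqSec_ne_zero hL s)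
    (t := fun d => fibMap (sqIso i s.g w L).hom d (sqSec hL t d))
    (fun d => fibMap_ne_zero (sqIso i s.g w L) (sqSec_ne_zero hL t d))
    (c1Rep hX hL s α) rfl ⇑γ (funext hγc) ζ _ (fun _ => rfl) ?_
  exact (c1CapFun_fibMap (sq_isSetup hX t) (pb_invertible t.g hL) (sqIso i s.g w L) ⇑γ (sqSec hL t)).symm

/-- The first Chern class. -/
def c1Class : Bivar.OpCl 1 X δX where
  op := c1Op hX hL
  push s t h _ w k := c1_push hX hL s t h w k
  pull s t h _ r hr w k := c1_pull hX hL s t h r hr w k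
  gysin s t i _ w M hM σ hσ k := c1_gysin hX hL s t.Y t.g t.lft t.δ t.compat i w M hM σ hσ k

theorem isC1Class_c1Class : Bivar.IsC1Class L (c1Class hX hL) :=
  ⟨hL, fun s k α hα _ hv γ hγ hγm =>
    capCH_cl (sq_isSetup hX s) (pb_invertible s.g hL) (sqSec_ne_zero hL s) k α hα hv γ hγ hγm⟩

end CycBivLib

end
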