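import Mathlib
import Groth.Prelude.Def_Cyc
import Groth.Agent.CycBivLib.Setup
import Groth.Agent.CycPushLib.BaseChange
import Groth.Agent.CycPushLib.Vanish
import Groth.Agent.CycC1Lib.Pull
import Groth.Agent.CycGysLib.Flat
import Groth.Agent.S1859

/-!
# Pushforward and flat pullback along arbitrary cartesian squares
-/

set_option autoImplicit false
set_option linter.style.haveILetI false
set_option linter.unusedSectionVars false

universe u

open AlgebraicGeometry CategoryTheory CategoryTheory.Limits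

noncomputable section

namespace CycBivLib

variable {A B C X X' D D' : Scheme.{u}}

/-- Pushforward along an isomorphism. -/
theorem map_iso_apply (e : A ≅ B) (δB : B → ℤ) (α : AlgebraicCycle A ℤ) (b : B) :
    AlgebraicCycle.map e.hom (fun a => δB (e.hom a)) δB α b = α (e.inv b) := by
  show ∑ᶠ a ∈ e.hom ⁻¹' {b}, α a * ((AlgebraicCycle.mapCoeff e.hom (fun a => δB (e.hom a)) δB a : ℕ) : ℤ) = _
  have hset : e.hom ⁻¹' {b} = {e.inv b} := by
    ext a
    simp only [Set.mem_preimage, Set.mem_singleton_iff]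
    exact ⟨fun h => by rw [← h, ← Scheme.Hom.comp_apply, e.hom_inv_id]; rfl,
      fun h => by rw [h, ← Scheme.Hom.comp_apply, e.inv_hom_id]; rfl⟩
  rw [hset, finsum_mem_singleton]
  simp [AlgebraicCycle.mapCoeff, CycPushLib.residueDegree_eq_one_of_preimmersion]

/-- Flat pullback along an isomorphism followed by a morphism. -/
theorem pullFun_iso_comp (e : A ≅ B) (g : B ⟶ C) (δB : B → ℤ) (δC : C → ℤ) (r : ℤ) (F : C → ℤ) (a : A) :
    Cyc.pullFun (e.hom ≫ g) (fun a => δB (e.hom a)) δC r F a = Cyc.pullFun g δB δC r F (e.hom a) := by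
  have hl : Module.length (A.presheaf.stalk a) (A.presheaf.stalk a ⧸ CycLimLib.fibIdeal (e.hom ≫ g) a) =
      Module.length (B.presheaf.stalk (e.hom a)) (B.presheaf.stalk (e.hom a) ⧸ CycLimLib.fibIdeal g (e.hom a)) := by
    rw [CycGysLib.fibIdeal_comp]
    refine CycPushLib.length_quot_map_surjective _ (e.hom.stalkMap_surjective a) _ ?_
    rw [(RingHom.injective_iff_ker_eq_bot _).1 (ConcreteCategory.bijective_of_isIso (e.hom.stalkMap a)).1]
    exact bot_le
  simp only [Cyc.pullFun, Scheme.Hom.comp_apply]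
  exact if_congr Iff.rfl (congrArg (fun n : ℕ∞ => F (g (e.hom a)) * (n.toNat : ℤ)) hl) rfl

/-- Proper pushforward commutes with flat pullback along any cartesian square. -/
theorem map_pullFun_square {h : X' ⟶ X} [IsProper h] {g : D ⟶ X} [Flat g] [LocallyOfFiniteType g]
    {j : D' ⟶ X'} {h' : D' ⟶ D} [IsProper h'] (hp : IsPullback j h' h g)
    {δ : X → ℤ} {δ' : X' → ℤ} {δD : D → ℤ} {δD' : D' → ℤ} (hX : Cyc.IsSetup X δ)
    (hδD : Cyc.DeltaCompat g δD δ) (hδ : Cyc.DeltaCompat h δ' δ) (hδh' : Cyc.DeltaCompat h' δD' δD)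
    (r : ℕ) (hr : Cyc.HasRelDim g r) {k : ℤ} (α : AlgebraicCycle X' ℤ)
    (γ' : AlgebraicCycle D' ℤ) (hγ' : ⇑γ' = Cyc.pullFun j δD' δ' r ⇑α) (hk : γ' ∈ Cyc.Zk D' δD' k) :
    ⇑(AlgebraicCycle.map h' δD' δD γ') = Cyc.pullFun g δD δ r ⇑(AlgebraicCycle.map h δ' δ α) := by
  have hD := isSetup_of_lft g hX hδD
  let P : Scheme.{u} := pullback h g
  let e : D' ≅ P := hp.isoPullback
  let δP : P → ℤ := fun z => δD' (e.inv z)
  have hδe : δD' = fun a => δP (e.hom a) := funext fun a => by
    show δD' a = δD' (e.inv (e.hom a))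
    rw [← Scheme.Hom.comp_apply, e.hom_inv_id]
    rfl
  have hcomp : Cyc.DeltaCompat e.inv δP δD' := fun z =>
    ⟨0, (CycPushLib.trdeg_preimmersion_left e.inv z).trans Nat.cast_zero.symm, by simp [δP]⟩
  have hsnd : Cyc.DeltaCompat (pullback.snd h g) δP δD := by
    have := Bivar.deltaCompat_comp e.inv h' δP δD' δD hcomp hδh'
    rwa [hp.isoPullback_inv_snd] at this
  have hPs : Cyc.IsSetup P δP := isSetup_of_lft (pullback.snd h g) hD hsnd
  let γP := AlgebraicCycle.map e.hom δD' δP γ'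
  have hγP : ⇑γP = Cyc.pullFun (pullback.fst h g) δP δ' r ⇑α := by
    funext z
    show AlgebraicCycle.map e.hom δD' δP γ' z = _
    rw [hδe, map_iso_apply, hγ', hδe]
    have h1 := pullFun_iso_comp e (pullback.fst h g) δP δ' r ⇑α (e.inv z)
    rw [hp.isoPullback_hom_fst] at h1
    rw [h1, ← Scheme.Hom.comp_apply, e.inv_hom_id]
    rfl
  have hδeh : Cyc.DeltaCompat e.hom δD' δP := fun a =>
    ⟨0, (CycPushLib.trdeg_preimmersion_left e.hom a).trans Nat.cast_zero.symm, by simp [congrFun hδe a]⟩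
  have hmm := Groth.Agent.S1859.result D' P D δD' δP δD (isSetup_of_lft h' hD hδh') hPs hD e.hom
    (pullback.snd h g) hδeh hsnd k γ' hk
  rw [CycPushLib.pullFun_map_baseChange h g hD hδ hsnd (fun z hz => CycLimLib.delta_eq_of_gen g hδD hr hz) α γP hγP]
  have key : ∀ {m : D' ⟶ D} [IsProper m], m = h' →
      AlgebraicCycle.map m δD' δD γ' = AlgebraicCycle.map h' δD' δD γ' := fun hm => by subst hm; rfl
  exact (congrArg DFunLike.coe (hmm.trans (key hp.isoPullback_hom_snd))).symm

end CycBivLib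

end
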