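import Mathlib
import Groth.Prelude.Def_Bivar
import Groth.Agent.CycBivLib.Chow
import Groth.Agent.CycBivLib.IsoPush
import Groth.Agent.CycGysLib.Basic
import Groth.Agent.CycPushLib.Closed
import Groth.Agent.S1856

/-!
# Chow groups of a clopen decomposition
-/

set_option autoImplicit false
set_option linter.style.haveILetI false
set_option linter.unusedSectionVars false

universe u

open AlgebraicGeometry CategoryTheory CategoryTheory.Limits

noncomputable section

namespace CycBivLib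

variable {A B : Scheme.{u}} {δ : A → ℤ}

/-- Open immersions have relative dimension zero. -/
theorem hasRelDim_openImmersion (e : B ⟶ A) [IsOpenImmersion e] : Cyc.HasRelDim e 0 := by
  intro y T hT
  have hy : ∀ a, e (e.fiberι y a) = y := fun a => by
    have ha : e.fiberι y a ∈ Set.range (e.fiberι y) := ⟨a, rfl⟩
    rw [e.range_fiberι] at ha
    exact ha
  haveI : Subsingleton ↥(e.fiber y) := ⟨fun a b => (e.fiberι y).isEmbedding.injective
    (e.isOpenEmbedding.injective ((hy a).trans (hy b).symm))⟩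
  haveI : Subsingleton ↥T := ⟨fun a b => Subtype.ext (Subsingleton.elim _ _)⟩
  haveI : Nonempty ↥T := hT.1.nonempty.to_subtype
  haveI : Nonempty (TopologicalSpace.IrreducibleCloseds ↥T) :=
    ⟨⟨{Classical.arbitrary ↥T}, isIrreducible_singleton, isClosed_discrete _⟩⟩
  exact le_antisymm (topologicalKrullDim_zero_of_discreteTopology ↥T) Order.krullDim_nonneg

theorem deltaCompat_restrict (e : B ⟶ A) [IsPreimmersion e] :
    Cyc.DeltaCompat e (fun b => δ (e b)) δ := fun b =>
  ⟨0, (CycPushLib.trdeg_preimmersion_left e b).trans Nat.cast_zero.symm, by simp⟩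

/-- Flat pullback along an open immersion is restriction. -/
theorem pullFun_openImmersion (e : B ⟶ A) [IsOpenImmersion e] (F : A → ℤ) (b : B) :
    Cyc.pullFun e (fun b => δ (e b)) δ 0 F b = F (e b) := by
  have h : CycLimLib.fibIdeal e b = IsLocalRing.maximalIdeal (B.presheaf.stalk b) :=
    CycGysLib.map_maximalIdeal_of_surjective _ (e.stalkMap_surjective b)
  have hl : Module.length (B.presheaf.stalk b) (B.presheaf.stalk b ⧸ CycLimLib.fibIdeal e b) = 1 := by
    rw [h, Module.length_eq_one_iff, isSimpleModule_iff_isCoatom]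
    exact (inferInstance : (IsLocalRing.maximalIdeal (B.presheaf.stalk b)).IsMaximal).out
  simp only [Cyc.pullFun, add_zero, if_true]
  unfold CycLimLib.fibIdeal at hl
  rw [hl]
  simp

/-- A decomposition into open and closed pieces. -/
structure Pieces {J : Type u} (A : Scheme.{u}) {P : J → Scheme.{u}} (e : ∀ j, P j ⟶ A) : Prop where
  isOpen : ∀ j, IsOpenImmersion (e j)
  isClosed : ∀ j, IsClosedImmersion (e j)
  eq_of_eq : ∀ {i j : J} (a : P i) (b : P j), e i a = e j b → i = j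
  cover : ∀ x : A, ∃ j, ∃ a : P j, e j a = x

variable {J : Type u} {P : J → Scheme.{u}} {e : ∀ j, P j ⟶ A}

/-- The value of a glued cycle. -/
def glueVal (H : Pieces A e) (β : ∀ j, AlgebraicCycle (P j) ℤ) (x : A) : ℤ :=
  β (H.cover x).choose (H.cover x).choose_spec.choose

theorem glueVal_apply (H : Pieces A e) (β : ∀ j, AlgebraicCycle (P j) ℤ) (j : J) (a : P j) :
    glueVal H β (e j a) = β j a := by
  obtain ⟨i, b, hb, h⟩ : ∃ (i : J) (b : P i), e i b = e j a ∧ glueVal H β (e j a) = β i b :=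
    ⟨_, _, (H.cover (e j a)).choose_spec.choose_spec, rfl⟩
  obtain rfl := H.eq_of_eq b a hb
  haveI := H.isClosed i
  rw [h, (e i).isClosedEmbedding.injective hb]

/-- The cycle glued from cycles on the pieces. -/
def glueCyc (H : Pieces A e) (β : ∀ j, AlgebraicCycle (P j) ℤ) : AlgebraicCycle A ℤ where
  toFun := glueVal H β
  supportWithinDomain' := by simp
  supportLocallyFiniteWithinDomain' x _ := by
    obtain ⟨j, a, rfl⟩ := H.cover x
    haveI := H.isOpen j
    obtain ⟨t, ht, hfin⟩ := (β j).supportLocallyFiniteWithinDomain' a trivial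
    refine ⟨e j '' t, (e j).isOpenEmbedding.isOpenMap.image_mem_nhds ht, (hfin.image (e j)).subset ?_⟩
    rintro _ ⟨⟨b, hb, rfl⟩, hne⟩
    refine ⟨b, ⟨hb, ?_⟩, rfl⟩
    rw [Function.mem_support, glueVal_apply] at hne
    exact hne

theorem glueCyc_apply (H : Pieces A e) (β : ∀ j, AlgebraicCycle (P j) ℤ) (j : J) (a : P j) :
    glueCyc H β (e j a) = β j a := glueVal_apply H β j a

theorem glueCyc_mem (H : Pieces A e) {k : ℤ} (β : ∀ j, AlgebraicCycle (P j) ℤ)
    (hβ : ∀ j, β j ∈ Cyc.Zk (P j) (fun a => δ (e j a)) k) : glueCyc H β ∈ Cyc.Zk A δ k := fun x hx => by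
  obtain ⟨j, a, rfl⟩ := H.cover x
  rw [glueCyc_apply]
  exact hβ j a hx

/-- Rational triviality is checked on the pieces. -/
theorem ratEquivZero_of_pieces (hA : Cyc.IsSetup A δ) (H : Pieces A e) {k : ℤ} (γ : AlgebraicCycle A ℤ)
    (h : ∀ j, ∃ γj : AlgebraicCycle (P j) ℤ, (∀ a, γj a = γ (e j a)) ∧
      Cyc.RatEquivZero (fun a => δ (e j a)) k γj) : Cyc.RatEquivZero δ k γ := by
  classical
  haveI : ∀ j, IsClosedImmersion (e j) := H.isClosed
  choose γj hγj hrat using h
  choose ι pts fn hd hne hloc hsum using hrat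
  let g : ∀ j (i : ι j), A.residueField (e j (pts j i)) := fun j i =>
    ((CycPushLib.gpull_bijective (e j) (rfl : e j (pts j i) = e j (pts j i))).2 (fn j i)).choose
  have hg : ∀ j i, CycDivLib.gpull (e j) rfl (g j i) = fn j i := fun j i =>
    ((CycPushLib.gpull_bijective (e j) (rfl : e j (pts j i) = e j (pts j i))).2 (fn j i)).choose_spec
  have hg0 : ∀ j i, g j i ≠ 0 := fun j i h0 => hne j i (by rw [← hg, h0, map_zero])
  have hmem : ∀ {j₀ : J} (a : P j₀) {j : J} (z : P j), e j z ⤳ e j₀ a → j = j₀ := by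
    intro j₀ a j z hz
    obtain ⟨b, hb⟩ : e j₀ a ∈ Set.range (e j) :=
      hz.mem_closed (e j).isClosedEmbedding.isClosed_range ⟨z, rfl⟩
    exact H.eq_of_eq b a hb
  refine ⟨Σ j, ι j, fun q => e q.1 (pts q.1 q.2), fun q => g q.1 q.2, fun q => hd q.1 q.2,
    fun q => hg0 q.1 q.2, fun x => ?_, fun x => ?_⟩
  · obtain ⟨j₀, a, rfl⟩ := H.cover x
    haveI := H.isOpen j₀
    obtain ⟨U, hU, haU, hfin⟩ := hloc j₀ a
    refine ⟨e j₀ '' U, (e j₀).isOpenEmbedding.isOpenMap U hU, ⟨a, haU, rfl⟩,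
      (hfin.image (Sigma.mk j₀)).subset ?_⟩
    rintro ⟨j, i⟩ ⟨y, hy, b, hb, rfl⟩
    have hs := specializes_iff_mem_closure.2 hy
    obtain rfl := hmem b (pts j i) hs
    exact ⟨i, ⟨b, specializes_iff_mem_closure.1 ((e j).isClosedEmbedding.isEmbedding.isInducing.specializes_iff.1 hs),
      hb⟩, rfl⟩
  · obtain ⟨j₀, a, rfl⟩ := H.cover x
    have hval : ∀ i, Cyc.divFun δ (e j₀ (pts j₀ i)) (g j₀ i) (e j₀ a) =
        Cyc.divFun (fun a => δ (e j₀ a)) (pts j₀ i) (fn j₀ i) a := fun i => by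
      rw [CycPushLib.divFun_closedImmersion (e j₀) hA rfl (hg0 j₀ i), hg]
    rw [← hγj, hsum j₀ a, ← finsum_congr hval,
      ← finsum_mem_univ fun q : Σ j, ι j => Cyc.divFun δ (e q.1 (pts q.1 q.2)) (g q.1 q.2) (e j₀ a)]
    rw [finsum_mem_inter_support_eq' _ Set.univ (Set.range (Sigma.mk j₀)) fun q hq => ?_]
    · rw [finsum_mem_range sigma_mk_injective]
    refine iff_of_true trivial ?_
    obtain ⟨j, i⟩ := q
    obtain rfl : j = j₀ := by
      refine hmem a (pts j i) ?_
      by_contra hs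
      exact hq (CycC1Lib.divFun_eq_zero_of_not_specializes hs _)
    exact ⟨i, rfl⟩

theorem ratEquiv_of_pieces (hA : Cyc.IsSetup A δ) (H : Pieces A e) {k : ℤ} (α β : AlgebraicCycle A ℤ)
    (h : ∀ j, ∃ αj βj : AlgebraicCycle (P j) ℤ, (∀ a, αj a = α (e j a)) ∧ (∀ a, βj a = β (e j a)) ∧
      Cyc.RatEquiv (fun a => δ (e j a)) k αj βj) : Cyc.RatEquiv δ k α β :=
  ratEquivZero_of_pieces hA H (α - β) fun j => by
    obtain ⟨αj, βj, h1, h2, h3⟩ := h j
    exact ⟨αj - βj, fun a => by show αj a - βj a = α (e j a) - β (e j a); rw [h1, h2], h3⟩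

theorem isSetup_piece (hA : Cyc.IsSetup A δ) (q : B ⟶ A) [IsPreimmersion q] [LocallyOfFiniteType q]
    {δB : B → ℤ} (hq : Cyc.DeltaCompat q δB δ) : Cyc.IsSetup B δB := isSetup_of_lft q hA hq

/-- The restriction to an open and closed piece respects rational equivalence. -/
theorem ratEquiv_restrict (hA : Cyc.IsSetup A δ) (q : B ⟶ A) [IsOpenImmersion q] [IsClosedImmersion q]
    {k : ℤ} {α β : AlgebraicCycle A ℤ} (hα : α ∈ Cyc.Zk A δ k) (hβ : β ∈ Cyc.Zk A δ k)
    (h : Cyc.RatEquiv δ k α β) :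
    Cyc.RatEquiv (fun b => δ (q b)) k (CycGysLib.restrictCyc q α) (CycGysLib.restrictCyc q β) := by
  have h1 := Groth.Agent.S1856.result B A (fun b => δ (q b)) δ
    (isSetup_of_lft q hA (deltaCompat_restrict q)) hA q 0 (hasRelDim_openImmersion q) (deltaCompat_restrict q)
    k α β hα hβ h (CycGysLib.restrictCyc q α) (CycGysLib.restrictCyc q β)
    (funext fun b => (pullFun_openImmersion q ⇑α b).symm) (funext fun b => (pullFun_openImmersion q ⇑β b).symm)
  rwa [Nat.cast_zero, add_zero] at h1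

/-- Restriction of Chow classes to a piece. -/
def resCH (hA : Cyc.IsSetup A δ) (q : B ⟶ A) [IsOpenImmersion q] [IsClosedImmersion q] {δB : B → ℤ}
    (hq : Cyc.DeltaCompat q δB δ) (k : ℤ) : ChowOps.CH A δ k →+ ChowOps.CH B δB k :=
  descend (AddMonoidHom.mk' (fun a => ChowOps.cl (CycGysLib.restrictCyc q a.1)
      (show CycGysLib.restrictCyc q a.1 ∈ Cyc.Zk B δB k by
        intro b hb
        rw [deltaCompat_immersion_eq q hq] at hb
        exact a.2 (q b) hb))
    fun a b => by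
      rw [← Bivar.cl_add]
      exact Bivar.cl_congr (Function.locallyFinsuppWithin.ext fun _ => rfl) _ _)
    fun a ha => by
      obtain rfl := deltaCompat_immersion_eq q hq
      have hr := ratEquiv_restrict hA q (α := a.1) (β := 0) a.2 (ChowOps.zk A δ k).zero_mem
        (show Cyc.RatEquivZero δ k (a.1 - 0) by rwa [sub_zero])
      refine (cl_eq_cl _ (ChowOps.zk B (fun b => δ (q b)) k).zero_mem ?_).trans Bivar.cl_zero
      rwa [show CycGysLib.restrictCyc q (0 : AlgebraicCycle A ℤ) = 0 from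
        Function.locallyFinsuppWithin.ext fun _ => rfl] at hr

theorem restrictCyc_mem_of_compat (q : B ⟶ A) [IsClosedImmersion q] {δB : B → ℤ}
    (hq : Cyc.DeltaCompat q δB δ) {k : ℤ} {α : AlgebraicCycle A ℤ} (hα : α ∈ Cyc.Zk A δ k) :
    CycGysLib.restrictCyc q α ∈ Cyc.Zk B δB k := fun b hb => by
  rw [deltaCompat_immersion_eq q hq] at hb
  exact hα (q b) hb

theorem resCH_cl (hA : Cyc.IsSetup A δ) (q : B ⟶ A) [IsOpenImmersion q] [IsClosedImmersion q] {δB : B → ℤ}
    (hq : Cyc.DeltaCompat q δB δ) (k : ℤ) (α : AlgebraicCycle A ℤ) (hα : α ∈ Cyc.Zk A δ k) :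
    resCH hA q hq k (ChowOps.cl α hα) =
      ChowOps.cl (CycGysLib.restrictCyc q α) (restrictCyc_mem_of_compat q hq hα) := rfl

variable {δP : ∀ j, P j → ℤ}

theorem ext_pieces (hA : Cyc.IsSetup A δ) (H : Pieces A e) [∀ j, IsOpenImmersion (e j)]
    [∀ j, IsClosedImmersion (e j)] (hP : ∀ j, Cyc.DeltaCompat (e j) (δP j) δ) {k : ℤ}
    {x y : ChowOps.CH A δ k} (h : ∀ j, resCH hA (e j) (hP j) k x = resCH hA (e j) (hP j) k y) : x = y := by
  obtain ⟨α, hα, rfl⟩ := Bivar.exists_rep x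
  obtain ⟨β, hβ, rfl⟩ := Bivar.exists_rep y
  refine cl_eq_cl _ _ (ratEquiv_of_pieces hA H α β fun j =>
    ⟨CycGysLib.restrictCyc (e j) α, CycGysLib.restrictCyc (e j) β, fun _ => rfl, fun _ => rfl, ?_⟩)
  have h1 := ratEquiv_of_cl_eq (isSetup_of_lft (e j) hA (hP j)) _ _ (h j)
  rwa [deltaCompat_immersion_eq (e j) (hP j)] at h1

theorem exists_pieces (hA : Cyc.IsSetup A δ) (H : Pieces A e) [∀ j, IsOpenImmersion (e j)]
    [∀ j, IsClosedImmersion (e j)] (hP : ∀ j, Cyc.DeltaCompat (e j) (δP j) δ) {k : ℤ}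
    (z : ∀ j, ChowOps.CH (P j) (δP j) k) : ∃ x, ∀ j, resCH hA (e j) (hP j) k x = z j := by
  choose β hβ hz using fun j => Bivar.exists_rep (z j)
  refine ⟨ChowOps.cl (glueCyc H β) (glueCyc_mem H β fun j => ?_), fun j => ?_⟩
  · rw [← deltaCompat_immersion_eq (e j) (hP j)]
    exact hβ j
  · rw [resCH_cl, ← hz j]
    exact Bivar.cl_congr (Function.locallyFinsuppWithin.ext fun a => glueCyc_apply H β j a) _ _

end CycBivLib

end
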