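import Mathlib
import Groth.Prelude.Def_Cyc

/-!
# The disjoint union of a locally finite family of closed subschemes
-/

set_option autoImplicit false
set_option linter.style.haveILetI false
set_option linter.unusedSectionVars false

universe u

open AlgebraicGeometry CategoryTheory CategoryTheory.Limits

noncomputable section

namespace CycBivLib

/-- A morphism which is finite on each member of a finite disjoint open cover of its source is finite. -/
theorem isFinite_of_disjoint_cover {S Y : Scheme.{u}} (h : S ⟶ Y) {κ : Type u} [Finite κ] (V : κ → S.Opens)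
    (hd : ∀ i j, i ≠ j → Disjoint (V i) (V j)) (hcov : ∀ p : S, ∃ k, p ∈ V k)
    (hV : ∀ k, IsFinite ((V k).ι ≫ h)) : IsFinite h := by
  classical
  haveI := Fintype.ofFinite κ
  have key : ∀ t : Finset κ, IsFinite ((t.sup V).ι ≫ h) := by
    intro t
    induction t using Finset.induction_on with
    | empty =>
      haveI : IsEmpty ↥((∅ : Finset κ).sup V) := by rw [Finset.sup_empty]; exact ⟨fun a => a.2⟩
      haveI : IsEmpty ((((∅ : Finset κ).sup V : S.Opens)) : Scheme.{u}) := this
      infer_instance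
    | insert a t ha ih =>
      let W := (insert a t).sup V
      have h1 : V a ≤ W := Finset.le_sup (Finset.mem_insert_self a t)
      have h2 : t.sup V ≤ W := Finset.sup_mono (Finset.subset_insert a t)
      let f := S.homOfLE h1
      let g := S.homOfLE h2
      have hdis : Disjoint (V a) (t.sup V) :=
        Finset.disjoint_sup_right.mpr fun i hi => hd a i fun e => ha (e ▸ hi)
      have hW : W = V a ⊔ t.sup V := Finset.sup_insert
      have hf : f.opensRange = W.ι ⁻¹ᵁ V a := Scheme.opensRange_homOfLE h1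
      have hg : g.opensRange = W.ι ⁻¹ᵁ t.sup V := Scheme.opensRange_homOfLE h2
      have hc : IsCompl f.opensRange g.opensRange := by
        rw [hf, hg]
        refine ⟨?_, ?_⟩
        · rw [disjoint_iff, ← Scheme.Hom.preimage_inf, disjoint_iff.mp hdis]
          rfl
        · rw [codisjoint_iff, ← Scheme.Hom.preimage_sup, ← hW, Scheme.Opens.ι_preimage_self]
      obtain ⟨hcol⟩ := nonempty_isColimit_binaryCofanMk_of_isCompl f g hc
      let e := IsColimit.coconePointUniqueUpToIso
        (colimit.isColimit (pair (V a : Scheme.{u}) (t.sup V : Scheme.Opens _))) hcol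
      haveI := ih
      haveI := hV a
      have he : e.hom ≫ W.ι ≫ h = coprod.desc ((V a).ι ≫ h) ((t.sup V).ι ≫ h) := by
        refine coprod.hom_ext ?_ ?_
        · rw [coprod.inl_desc, ← Category.assoc, show coprod.inl ≫ e.hom = f from
            IsColimit.comp_coconePointUniqueUpToIso_hom _ hcol ⟨WalkingPair.left⟩]
          exact Scheme.homOfLE_ι_assoc ..
        · rw [coprod.inr_desc, ← Category.assoc, show coprod.inr ≫ e.hom = g from
            IsColimit.comp_coconePointUniqueUpToIso_hom _ hcol ⟨WalkingPair.right⟩]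
          exact Scheme.homOfLE_ι_assoc ..
      have key : IsFinite (e.inv ≫ coprod.desc ((V a).ι ≫ h) ((t.sup V).ι ≫ h)) := inferInstance
      rw [← he, e.inv_hom_id_assoc] at key
      exact key
  have htop : Finset.univ.sup V = ⊤ := top_le_iff.1 fun p _ => by
    obtain ⟨k, hk⟩ := hcov p
    exact Finset.le_sup (f := V) (Finset.mem_univ k) hk
  have := key Finset.univ
  rw [htop] at this
  haveI := this
  have e : h = S.topIso.inv ≫ (⊤ : S.Opens).ι ≫ h := by
    rw [← Category.assoc, Scheme.toIso_inv_ι, Category.id_comp]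
  rw [e]
  infer_instance

/-- The disjoint union of a locally finite family of closed subschemes is finite over the ambient scheme. -/
theorem isFinite_sigmaDesc {Y : Scheme.{u}} {I : Type u} {W : I → Scheme.{u}} (e : ∀ i, W i ⟶ Y)
    [∀ i, IsClosedImmersion (e i)]
    (hloc : ∀ y : Y, ∃ U : Y.Opens, y ∈ U ∧ {i | ∃ w, e i w ∈ U}.Finite) : IsFinite (Sigma.desc e) := by
  choose U hU hfin using hloc
  refine IsZariskiLocalAtTarget.of_iSup_eq_top (P := @IsFinite) U
    (top_le_iff.1 fun y _ => TopologicalSpace.Opens.mem_iSup.2 ⟨y, hU y⟩) fun y => ?_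
  set q := Sigma.desc e with hqdef
  have hqι : ∀ i, Sigma.ι W i ≫ q = e i := fun i => Sigma.ι_desc e i
  haveI : Finite {i // ∃ w, e i w ∈ U y} := (hfin y).to_subtype
  refine isFinite_of_disjoint_cover (q ∣_ U y) (κ := {i // ∃ w, e i w ∈ U y})
    (fun k => (q ⁻¹ᵁ U y).ι ⁻¹ᵁ (Sigma.ι W k.1).opensRange) (fun i j hij => ?_) (fun p => ?_) fun k => ?_
  · rw [disjoint_iff, ← Scheme.Hom.preimage_inf,
      disjoint_iff.mp (disjoint_opensRange_sigmaι W i.1 j.1 fun h => hij (Subtype.ext h))]
    rfl
  · obtain ⟨⟨i, w⟩, hw⟩ := (sigmaMk W).surjective ((q ⁻¹ᵁ U y).ι p)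
    rw [sigmaMk_mk] at hw
    refine ⟨⟨i, w, ?_⟩, ⟨w, hw⟩⟩
    have hp : q ((q ⁻¹ᵁ U y).ι p) ∈ U y := p.2
    rw [← hw, ← Scheme.Hom.comp_apply, hqι] at hp
    exact hp
  · let V : ((q ⁻¹ᵁ U y : (∐ W).Opens) : Scheme.{u}).Opens := (q ⁻¹ᵁ U y).ι ⁻¹ᵁ (Sigma.ι W k.1).opensRange
    let c : (V : Scheme.{u}) ⟶ W k.1 := IsOpenImmersion.lift (Sigma.ι W k.1) (V.ι ≫ (q ⁻¹ᵁ U y).ι) (by
      rintro _ ⟨v, rfl⟩
      rw [Scheme.Hom.comp_apply]
      exact v.2)
    have hc : c ≫ Sigma.ι W k.1 = V.ι ≫ (q ⁻¹ᵁ U y).ι := IsOpenImmersion.lift_fac _ _ _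
    haveI : IsOpenImmersion (c ≫ Sigma.ι W k.1) := by rw [hc]; infer_instance
    haveI : IsOpenImmersion c := IsOpenImmersion.of_comp c (Sigma.ι W k.1)
    have hce : (V.ι ≫ q ∣_ U y) ≫ (U y).ι = c ≫ e k.1 := by
      rw [Category.assoc, morphismRestrict_ι, ← Category.assoc, ← hc, Category.assoc, hqι]
    have hcr : Set.range c = e k.1 ⁻¹' (U y) := by
      ext w
      constructor
      · rintro ⟨v, rfl⟩
        show e k.1 (c v) ∈ U y
        rw [← Scheme.Hom.comp_apply, ← hce, Scheme.Hom.comp_apply]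
        exact ((V.ι ≫ q ∣_ U y) v).2
      · intro hw
        have hw' : q (Sigma.ι W k.1 w) ∈ U y := by
          rw [← Scheme.Hom.comp_apply, hqι]
          exact hw
        refine ⟨⟨⟨Sigma.ι W k.1 w, hw'⟩, ⟨w, rfl⟩⟩, (Sigma.ι W k.1).isOpenEmbedding.injective ?_⟩
        rw [← Scheme.Hom.comp_apply, hc]
        rfl
    haveI : IsPreimmersion ((V.ι ≫ q ∣_ U y) ≫ (U y).ι) := by rw [hce]; infer_instance
    haveI : IsPreimmersion (V.ι ≫ q ∣_ U y) := IsPreimmersion.of_comp _ (U y).ι
    haveI : IsClosedImmersion (V.ι ≫ q ∣_ U y) := by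
      refine IsClosedImmersion.of_isPreimmersion _ ?_
      have hr : Set.range (V.ι ≫ q ∣_ U y) = (U y).ι ⁻¹' Set.range (e k.1) := by
        ext u
        constructor
        · rintro ⟨v, rfl⟩
          exact ⟨c v, by rw [← Scheme.Hom.comp_apply, ← hce]; rfl⟩
        · rintro ⟨w, hw⟩
          obtain ⟨v, rfl⟩ : w ∈ Set.range c := by
            rw [hcr]
            show e k.1 w ∈ U y
            rw [hw]
            exact u.2
          refine ⟨v, (U y).ι.isOpenEmbedding.injective ?_⟩
          rw [← hw, ← Scheme.Hom.comp_apply, ← Scheme.Hom.comp_apply, hce]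
      rw [hr]
      exact (e k.1).isClosedEmbedding.isClosed_range.preimage (U y).ι.continuous
    infer_instance

end CycBivLib

end
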