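import Mathlib
import Groth.Prelude.Def_C1
import Groth.Agent.CycBivLib.IsoInv
import Groth.Agent.CycGysLib.Square
import Groth.Agent.CycGysLib.Flat
import Groth.Agent.CycGysLib.ZeroScheme
import Groth.Agent.CycCommLib.Double
import Groth.Agent.CycPushLib.Vanish
import Groth.Agent.AmpleDevLib.Pull

/-!
# Gysin maps along arbitrary cartesian squares
-/

set_option autoImplicit false
set_option linter.style.haveILetI false
set_option linter.unusedSectionVars false

universe u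

open AlgebraicGeometry CategoryTheory CategoryTheory.Limits Opposite

noncomputable section

namespace CycBivLib

open CycC1Lib (fib pbFib)

variable {X X' D D' : Scheme.{u}} {δ : X → ℤ} {δ' : X' → ℤ}

/-- A square applied to a point. -/
theorem square_apply {h : X' ⟶ X} {h' : D' ⟶ D} {j : D' ⟶ X'} {i : D ⟶ X} (w : h' ≫ i = j ≫ h) (z : D') :
    h (j z) = i (h' z) := by
  rw [← Scheme.Hom.comp_apply, ← w, Scheme.Hom.comp_apply]

theorem range_preimage_of_isPullback {h : X' ⟶ X} {h' : D' ⟶ D} {j : D' ⟶ X'} {i : D ⟶ X}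
    (hp : IsPullback j h' h i) : h ⁻¹' Set.range i = Set.range j := by
  rw [← Scheme.Pullback.range_fst]
  ext x
  constructor
  · rintro ⟨z, rfl⟩
    exact ⟨hp.isoPullback.inv z, by rw [← Scheme.Hom.comp_apply, hp.isoPullback_inv_fst]⟩
  · rintro ⟨z, rfl⟩
    exact ⟨hp.isoPullback.hom z, by rw [← Scheme.Hom.comp_apply, hp.isoPullback_hom_fst]⟩

/-- Images of zero schemes under isomorphisms of modules. -/
theorem isZeroSchemeOf_map {M N : X.Modules} (φ : M ≅ N) {i : D ⟶ X} {σ : M.presheaf.obj (Opposite.op ⊤)}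
    (hσ : Cyc.IsZeroSchemeOf i M σ) : Cyc.IsZeroSchemeOf i N (φ.hom.app ⊤ σ) := by
  refine ⟨?_, fun d => ?_⟩
  · rw [hσ.1]
    ext x
    show fib M _ = 0 ↔ fib N _ = 0
    have hg : fibMap φ.hom x (fib M (M.presheaf.germ ⊤ x trivial σ)) =
        fib N (N.presheaf.germ ⊤ x trivial (φ.hom.app ⊤ σ)) := fibMap_germ φ.hom (U := ⊤) trivial σ
    rw [← hg]
    refine ⟨fun h => by rw [h, map_zero], fun h => ?_⟩
    by_contra h'
    exact fibMap_ne_zero φ h' h
  · obtain ⟨t, f, ht, hst, hker⟩ := hσ.2 d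
    let e : M.presheaf.stalk (i d) ≃ₗ[X.presheaf.stalk (i d)] N.presheaf.stalk (i d) :=
      ((DerSch.stalkFunctor X (i d)).mapIso φ).toLinearEquiv
    refine ⟨e t, f, ?_, ?_, hker⟩
    · have h1 := congrArg (Submodule.map (e : _ →ₗ[X.presheaf.stalk (i d)] N.presheaf.stalk (i d))) ht
      rw [Submodule.map_span, Set.image_singleton, Submodule.map_top, LinearEquiv.range] at h1
      exact h1
    · refine Eq.trans ?_ (map_smul e f t)
      rw [← hst]
      exact (DerSch.stalkFunctor_map_germ (i d) φ.hom ⊤ trivial σ).symm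

/-- The pullback of a zero scheme along any cartesian square. -/
theorem isZeroSchemeOf_square {h : X' ⟶ X} {h' : D' ⟶ D} {j : D' ⟶ X'} {i : D ⟶ X} [IsClosedImmersion i]
    (hp : IsPullback j h' h i) {L : X.Modules} (hL : PicF.IsInvertible L)
    {s : L.presheaf.obj (Opposite.op ⊤)} (hD : Cyc.IsZeroSchemeOf i L s) :
    Cyc.IsZeroSchemeOf j (KFlatLib.pb h L) (CycGysLib.pbSec h s) := by
  have h1 := CycCommLib.isZeroSchemeOf_iso_comp (CycGysLib.isZeroSchemeOf_pullback h i hL s hD) hp.isoPullback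
  rwa [hp.isoPullback_hom_fst] at h1

/-- The Gysin sections of two sections with the same zero scheme. -/
theorem secDivFun_gysinChoice_iso (hX : Cyc.IsSetup X δ) {M N : X.Modules} (hM : PicF.IsInvertible M)
    (hN : PicF.IsInvertible N) (φ : M ≅ N) {i : D ⟶ X} {σ : M.presheaf.obj (Opposite.op ⊤)}
    {τ : N.presheaf.obj (Opposite.op ⊤)} (hσ : Cyc.IsZeroSchemeOf i M σ) (hτ : Cyc.IsZeroSchemeOf i N τ)
    (v : (ξ : X) → Cyc.secFibre M ξ) (w : (ξ : X) → Cyc.secFibre N ξ) {ξ : X} (hξ : ξ ∉ Set.range i) (x : X) :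
    Cyc.secDivFun δ N ξ (fibMap φ.hom ξ (Cyc.gysinChoice M σ v ξ)) x =
      Cyc.secDivFun δ N ξ (Cyc.gysinChoice N τ w ξ) x := by
  rw [CycGysLib.gysinChoice_of_not_mem hσ v hξ, CycGysLib.gysinChoice_of_not_mem hτ w hξ,
    fibMap_germ φ.hom (U := ⊤) trivial σ]
  exact CycGysLib.secDivFun_eq_of_zeroScheme hX hN (isZeroSchemeOf_map φ hσ) hτ hξ x

/-- The Gysin cycle depends only on the zero scheme. -/
theorem gysin_indep (hX : Cyc.IsSetup X δ) {M N : X.Modules} (hM : PicF.IsInvertible M)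
    (hN : PicF.IsInvertible N) (φ : M ≅ N) {i : D ⟶ X} [IsClosedImmersion i]
    {σ : M.presheaf.obj (Opposite.op ⊤)} {τ : N.presheaf.obj (Opposite.op ⊤)} (hσ : Cyc.IsZeroSchemeOf i M σ)
    (hτ : Cyc.IsZeroSchemeOf i N τ) {k : ℤ} (α : AlgebraicCycle X ℤ) (hα : α ∈ Cyc.Zk X δ (k + 1))
    {v : (ξ : X) → Cyc.secFibre M ξ} (hv : ∀ ξ, v ξ ≠ 0) {w : (ξ : X) → Cyc.secFibre N ξ} (hw : ∀ ξ, w ξ ≠ 0)
    (γ γ' : AlgebraicCycle D ℤ) (hγ : ∀ d, γ d = Cyc.c1CapFun δ M ⇑α (Cyc.gysinChoice M σ v) (i d))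
    (hγ' : ∀ d, γ' d = Cyc.c1CapFun δ N ⇑α (Cyc.gysinChoice N τ w) (i d)) :
    Cyc.RatEquiv (fun d => δ (i d)) k γ γ' :=
  CycGysLib.ratEquiv_restrict_c1Cap hX hN i α hα
    (fun ξ => fibMap_ne_zero φ (CycGysLib.gysinChoice_ne_zero σ hv ξ)) (CycGysLib.gysinChoice_ne_zero τ hw)
    (fun ξ hξ d => secDivFun_gysinChoice_iso hX hM hN φ hσ hτ v w hξ _) γ γ'
    (fun d => by rw [hγ, c1CapFun_fibMap hX hM φ]) hγ'

theorem residueDegree_square {h : X' ⟶ X} {h' : D' ⟶ D} {j : D' ⟶ X'} {i : D ⟶ X} [IsClosedImmersion i]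
    [IsClosedImmersion j] (w : h' ≫ i = j ≫ h) (z : D') : h'.residueDegree z = h.residueDegree (j z) := by
  have h1 := CycPushLib.residueDegree_congr w z
  rw [CycPushLib.residueDegree_comp, CycPushLib.residueDegree_comp,
    CycPushLib.residueDegree_eq_one_of_preimmersion j,
    CycPushLib.residueDegree_eq_one_of_preimmersion i] at h1
  simpa using h1

theorem deltaCompat_square {h : X' ⟶ X} {h' : D' ⟶ D} {j : D' ⟶ X'} {i : D ⟶ X} [IsClosedImmersion i]
    [IsClosedImmersion j] (w : h' ≫ i = j ≫ h) (hδ : Cyc.DeltaCompat h δ' δ) :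
    Cyc.DeltaCompat h' (fun z => δ' (j z)) (fun d => δ (i d)) := by
  intro z
  obtain ⟨n, hn, hd⟩ := hδ (j z)
  have h1 : Dual3.resTrdeg (h' ≫ i) z = Dual3.resTrdeg (j ≫ h) z := by rw [w]
  rw [AlgSpLib.resTrdeg_comp, AlgSpLib.resTrdeg_comp, CycPushLib.trdeg_preimmersion_left j,
    CycPushLib.trdeg_preimmersion_left i, add_zero, zero_add] at h1
  refine ⟨n, h1.trans hn, ?_⟩
  show δ' (j z) = δ (i (h' z)) + n
  rw [hd, square_apply w z]

/-- Proper pushforward commutes with restriction to a closed subscheme. -/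
theorem map_restrict {h : X' ⟶ X} [IsProper h] {h' : D' ⟶ D} [IsProper h'] {j : D' ⟶ X'} {i : D ⟶ X}
    [IsClosedImmersion i] [IsClosedImmersion j] (hp : IsPullback j h' h i) (β : AlgebraicCycle X' ℤ) (d : D) :
    AlgebraicCycle.map h' (fun z => δ' (j z)) (fun d => δ (i d)) (CycGysLib.restrictCyc j β) d =
      AlgebraicCycle.map h δ' δ β (i d) := by
  classical
  show ∑ᶠ z ∈ h' ⁻¹' {d}, β (j z) *
      ((AlgebraicCycle.mapCoeff h' (fun z => δ' (j z)) (fun d => δ (i d)) z : ℕ) : ℤ) =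
    ∑ᶠ x ∈ h ⁻¹' {i d}, β x * ((AlgebraicCycle.mapCoeff h δ' δ x : ℕ) : ℤ)
  have hset : h ⁻¹' {i d} = j '' (h' ⁻¹' {d}) := by
    ext x
    simp only [Set.mem_preimage, Set.mem_singleton_iff, Set.mem_image]
    constructor
    · intro hx
      obtain ⟨z, rfl⟩ : x ∈ Set.range j := by
        rw [← range_preimage_of_isPullback hp]
        exact ⟨d, hx.symm⟩
      exact ⟨z, i.isClosedEmbedding.injective ((square_apply hp.w.symm z).symm.trans hx), rfl⟩
    · rintro ⟨z, rfl, rfl⟩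
      exact square_apply hp.w.symm z
  rw [hset, finsum_mem_image j.isClosedEmbedding.injective.injOn]
  refine finsum_mem_congr rfl fun z _ => ?_
  simp only [AlgebraicCycle.mapCoeff, residueDegree_square hp.w.symm z, square_apply hp.w.symm z]

/-- The Gysin sections pulled back along a square. -/
theorem secDivFun_gysinChoice_square (hX' : Cyc.IsSetup X' δ') {h : X' ⟶ X} {h' : D' ⟶ D} {j : D' ⟶ X'}
    {i : D ⟶ X} [IsClosedImmersion i] (hp : IsPullback j h' h i) {L : X.Modules} (hL : PicF.IsInvertible L)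
    {s : L.presheaf.obj (Opposite.op ⊤)} (hD : Cyc.IsZeroSchemeOf i L s)
    {N : X'.Modules} (hN : PicF.IsInvertible N) (φ : KFlatLib.pb h L ≅ N)
    {τ : N.presheaf.obj (Opposite.op ⊤)} (hτ : Cyc.IsZeroSchemeOf j N τ)
    (w : (ξ : X) → Cyc.secFibre L ξ) (w' : (ξ : X') → Cyc.secFibre N ξ) {ξ : X'} (hξ : ξ ∉ Set.range j) (x : X') :
    Cyc.secDivFun δ' N ξ (fibMap φ.hom ξ (pbFib h L ξ (Cyc.gysinChoice L s w (h ξ)))) x =
      Cyc.secDivFun δ' N ξ (Cyc.gysinChoice N τ w' ξ) x := by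
  have hout : h ξ ∉ Set.range i := fun hh => hξ ((range_preimage_of_isPullback hp).le hh)
  rw [CycGysLib.gysinChoice_of_not_mem hD w hout, CycGysLib.gysinChoice_of_not_mem hτ w' hξ,
    CycGysLib.pbFib_germ h hL s ξ, fibMap_germ φ.hom (U := ⊤) trivial]
  exact CycGysLib.secDivFun_eq_of_zeroScheme hX' hN (isZeroSchemeOf_map φ (isZeroSchemeOf_square hp hL hD)) hτ hξ x

theorem ker_le_fibIdeal {h : X' ⟶ X} {h' : D' ⟶ D} {j : D' ⟶ X'} {i : D ⟶ X} [IsClosedImmersion i]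
    (hp : IsPullback j h' h i) {L : X.Modules} (hL : PicF.IsInvertible L)
    {s : L.presheaf.obj (Opposite.op ⊤)} (hD : Cyc.IsZeroSchemeOf i L s) (z : D') :
    RingHom.ker (j.stalkMap z).hom ≤ CycLimLib.fibIdeal h (j z) := by
  obtain ⟨U, e, hU, he⟩ := TwistLib.exists_genOn hL (h (j z))
  obtain ⟨φ, hφ⟩ := (he.genAt hU).2 (L.presheaf.germ ⊤ (h (j z)) trivial s)
  have he' : AmpleLib.GenOn (KFlatLib.pb h L) (W := h ⁻¹ᵁ U) (KFlatLib.puSec h e) :=
    TwistLib.genOn_of_genAt fun w hw => TwistLib.GenAt.puSec h (he.genAt hw)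
  have hcoef : h.stalkMap (j z) φ • (KFlatLib.pb h L).presheaf.germ (h ⁻¹ᵁ U) (j z) hU
      (KFlatLib.puSec h e) = (KFlatLib.pb h L).presheaf.germ ⊤ (j z) trivial (CycGysLib.pbSec h s) := by
    have h1 := CycC1Lib.puStalk_germ_smul h L (U := ⊤) (j z) trivial s 1
    rw [one_smul, map_one, one_smul] at h1
    exact (CycC1Lib.puStalk_germ_smul h L _ hU e φ).symm.trans ((congrArg _ hφ).trans h1)
  rw [CycGysLib.exists_zero_coef he' (isZeroSchemeOf_square hp hL hD) hU hcoef, Ideal.span_le,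
    Set.singleton_subset_iff]
  refine Ideal.mem_map_of_mem _ ((IsLocalRing.residue_eq_zero_iff φ).1 ?_)
  have h0 : fib L (L.presheaf.germ ⊤ (h (j z)) trivial s) = 0 :=
    hD.1.le ⟨h' z, (square_apply hp.w.symm z).symm⟩
  rw [← hφ] at h0
  exact (CycC1Lib.fib_smul_eq_zero_iff (he.genAt hU) φ).1 ((Submodule.Quotient.mk_smul _ _ _).symm.trans h0)

/-- Flat pullback commutes with restriction to a zero scheme. -/
theorem pullFun_restrict {h : X' ⟶ X} {h' : D' ⟶ D} {j : D' ⟶ X'} {i : D ⟶ X} [IsClosedImmersion i]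
    [IsClosedImmersion j] (hp : IsPullback j h' h i) {L : X.Modules} (hL : PicF.IsInvertible L)
    {s : L.presheaf.obj (Opposite.op ⊤)} (hD : Cyc.IsZeroSchemeOf i L s) (r : ℤ)
    (F : X → ℤ) (z : D') :
    Cyc.pullFun h' (fun z => δ' (j z)) (fun d => δ (i d)) r (fun d => F (i d)) z =
      Cyc.pullFun h δ' δ r F (j z) := by
  have hfib : CycLimLib.fibIdeal h' z = (CycLimLib.fibIdeal h (j z)).map (j.stalkMap z).hom := by
    rw [← CycGysLib.fibIdeal_comp, CycGysLib.fibIdeal_congr hp.w, CycGysLib.fibIdeal_comp]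
    unfold CycLimLib.fibIdeal
    rw [CycGysLib.map_maximalIdeal_of_surjective _ (i.stalkMap_surjective _)]
  have hl : Module.length (D'.presheaf.stalk z) (D'.presheaf.stalk z ⧸ CycLimLib.fibIdeal h' z) =
      Module.length (X'.presheaf.stalk (j z)) (X'.presheaf.stalk (j z) ⧸ CycLimLib.fibIdeal h (j z)) := by
    rw [hfib]
    exact CycPushLib.length_quot_map_surjective _ (j.stalkMap_surjective z) _
      (ker_le_fibIdeal hp hL hD z)
  simp only [Cyc.pullFun, square_apply hp.w.symm z]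
  exact if_congr Iff.rfl (congrArg (fun n : ℕ∞ => F (i (h' z)) * (n.toNat : ℤ)) hl) rfl

end CycBivLib

end
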