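import Mathlib
import Groth.Prelude.Def_C1
import Groth.Agent.CycBivLib.Square
import Groth.Agent.CycC1Lib.Pull
import Groth.Agent.CycC1Lib.Push
import Groth.Agent.CycPushLib.Proper

/-!
# Compatibilities of Gysin maps along cartesian squares
-/

set_option autoImplicit false
set_option linter.style.haveILetI false
set_option linter.unusedSectionVars false

universe u

open AlgebraicGeometry CategoryTheory CategoryTheory.Limits Opposite

noncomputable section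

namespace CycBivLib

open CycC1Lib (fib pbFib)

variable {X X' D D' : Scheme.{u}} {δ : X → ℤ} {δ' : X' → ℤ}

/-- Gysin maps commute with proper pushforward. -/
theorem gysin_push_core (hX : Cyc.IsSetup X δ) (hX' : Cyc.IsSetup X' δ') {h : X' ⟶ X} [IsProper h]
    (hδ : Cyc.DeltaCompat h δ' δ) {h' : D' ⟶ D} [IsProper h'] {j : D' ⟶ X'} {i : D ⟶ X}
    [IsClosedImmersion i] [IsClosedImmersion j] (hp : IsPullback j h' h i)
    {L : X.Modules} (hL : PicF.IsInvertible L) {s : L.presheaf.obj (Opposite.op ⊤)}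
    (hD : Cyc.IsZeroSchemeOf i L s) {N : X'.Modules} (hN : PicF.IsInvertible N) (φ : KFlatLib.pb h L ≅ N)
    {τ : N.presheaf.obj (Opposite.op ⊤)} (hτ : Cyc.IsZeroSchemeOf j N τ)
    {k : ℤ} (α : AlgebraicCycle X' ℤ) (hα : α ∈ Cyc.Zk X' δ' (k + 1))
    {w : (ξ : X) → Cyc.secFibre L ξ} (hw : ∀ ξ, w ξ ≠ 0) {w' : (ξ : X') → Cyc.secFibre N ξ} (hw' : ∀ ξ, w' ξ ≠ 0)
    (γ' : AlgebraicCycle D' ℤ) (hγ' : ∀ z, γ' z = Cyc.c1CapFun δ' N ⇑α (Cyc.gysinChoice N τ w') (j z))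
    (γ : AlgebraicCycle D ℤ)
    (hγ : ∀ d, γ d = Cyc.c1CapFun δ L ⇑(AlgebraicCycle.map h δ' δ α) (Cyc.gysinChoice L s w) (i d)) :
    Cyc.RatEquiv (fun d => δ (i d)) k (AlgebraicCycle.map h' (fun z => δ' (j z)) (fun d => δ (i d)) γ') γ := by
  classical
  have hu := CycGysLib.gysinChoice_ne_zero s hw
  have hL' : PicF.IsInvertible (KFlatLib.pb h L) := AmpleDevLib.isInvertible_pb h hL
  have hu₀ : ∀ ξ, pbFib h L ξ (Cyc.gysinChoice L s w (h ξ)) ≠ 0 :=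
    fun ξ => CycC1Lib.pbFib_ne_zero h hL (hu (h ξ))
  let γ₀ := CycC1Lib.capCyc hX' hL' α hu₀
  let γr := CycGysLib.restrictCyc j γ₀
  have h1 : Cyc.RatEquiv (fun z => δ' (j z)) k γ' γr :=
    CycGysLib.ratEquiv_restrict_c1Cap hX' hN j α hα (CycGysLib.gysinChoice_ne_zero τ hw')
      (fun ξ => fibMap_ne_zero φ (hu₀ ξ))
      (fun ξ hξ d => (secDivFun_gysinChoice_square hX' hp hL hD hN φ hτ w w' hξ _).symm)
      γ' γr hγ' fun z => by
        rw [c1CapFun_fibMap hX' hL' φ]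
        rfl
  have heq : AlgebraicCycle.map h' (fun z => δ' (j z)) (fun d => δ (i d)) γr = γ :=
    Function.locallyFinsuppWithin.ext fun d => by
      rw [map_restrict hp γ₀ d, CycC1Lib.map_c1Cap hX' hX h hδ hL α hu γ₀ rfl (i d), ← hγ d]
  rw [← heq]
  exact CycPushLib.ratEquiv_map (CycPushLib.setup_of_closedImmersion j hX').1
    (CycPushLib.setup_of_closedImmersion i hX).1 h' (deltaCompat_square hp.w.symm hδ) h1

/-- Gysin maps commute with flat pullback. -/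
theorem gysin_pull_core (hX : Cyc.IsSetup X δ) (hX' : Cyc.IsSetup X' δ') {h : X' ⟶ X} [Flat h] {r : ℤ}
    (hgen : ∀ x, CycLimLib.IsGen h x → δ' x = δ (h x) + r)
    {h' : D' ⟶ D} {j : D' ⟶ X'} {i : D ⟶ X}
    [IsClosedImmersion i] [IsClosedImmersion j] (hp : IsPullback j h' h i)
    {L : X.Modules} (hL : PicF.IsInvertible L) {s : L.presheaf.obj (Opposite.op ⊤)}
    (hD : Cyc.IsZeroSchemeOf i L s) {N : X'.Modules} (hN : PicF.IsInvertible N) (φ : KFlatLib.pb h L ≅ N)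
    {τ : N.presheaf.obj (Opposite.op ⊤)} (hτ : Cyc.IsZeroSchemeOf j N τ)
    {k : ℤ} (α : AlgebraicCycle X ℤ) (hα : α ∈ Cyc.Zk X δ (k + 1))
    {w : (ξ : X) → Cyc.secFibre L ξ} (hw : ∀ ξ, w ξ ≠ 0) {w' : (ξ : X') → Cyc.secFibre N ξ} (hw' : ∀ ξ, w' ξ ≠ 0)
    (ζ₁ ζ₂ : AlgebraicCycle D' ℤ)
    (h₁ : ∀ z, ζ₁ z = Cyc.c1CapFun δ' N (Cyc.pullFun h δ' δ r ⇑α) (Cyc.gysinChoice N τ w') (j z))
    (h₂ : ⇑ζ₂ = Cyc.pullFun h' (fun z => δ' (j z)) (fun d => δ (i d)) r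
      (fun d => Cyc.c1CapFun δ L ⇑α (Cyc.gysinChoice L s w) (i d))) :
    Cyc.RatEquiv (fun z => δ' (j z)) (k + r) ζ₁ ζ₂ := by
  classical
  have hu := CycGysLib.gysinChoice_ne_zero s hw
  have hL' : PicF.IsInvertible (KFlatLib.pb h L) := AmpleDevLib.isInvertible_pb h hL
  have hu₀ : ∀ ξ, pbFib h L ξ (Cyc.gysinChoice L s w (h ξ)) ≠ 0 :=
    fun ξ => CycC1Lib.pbFib_ne_zero h hL (hu (h ξ))
  let P := CycC1Lib.pullCyc h hX' hgen α
  have hP : P ∈ Cyc.Zk X' δ' (k + r + 1) := by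
    rw [add_right_comm]
    exact CycC1Lib.pullCyc_mem_Zk h hX' hgen hα
  refine CycGysLib.ratEquiv_restrict_c1Cap hX' hN j P hP (CycGysLib.gysinChoice_ne_zero τ hw')
    (fun ξ => fibMap_ne_zero φ (hu₀ ξ))
    (fun ξ hξ d => (secDivFun_gysinChoice_square hX' hp hL hD hN φ hτ w w' hξ _).symm)
    ζ₁ ζ₂ h₁ fun z => ?_
  rw [h₂, pullFun_restrict hp hL hD r (Cyc.c1CapFun δ L ⇑α (Cyc.gysinChoice L s w)) z,
    c1CapFun_fibMap hX' hL' φ]
  exact congrFun (CycC1Lib.pullFun_c1Cap h hX' hX hgen hL α hu) (j z)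

/-- The Gysin maps of two sections commute, for any fibre product. -/
theorem gysin_gysin_core {Z : Scheme.{u}} (hX : Cyc.IsSetup X δ) {L L' : X.Modules} (hL : PicF.IsInvertible L)
    (hL' : PicF.IsInvertible L') {s : L.presheaf.obj (Opposite.op ⊤)} {s' : L'.presheaf.obj (Opposite.op ⊤)}
    {i : D ⟶ X} {i' : D' ⟶ X} [IsClosedImmersion i] [IsClosedImmersion i'] (hD : Cyc.IsZeroSchemeOf i L s)
    (hD' : Cyc.IsZeroSchemeOf i' L' s') {j : Z ⟶ D} {j' : Z ⟶ D'} [IsClosedImmersion j] [IsClosedImmersion j']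
    (hp : IsPullback j j' i i') {σ' : ((Scheme.Modules.pullback i).obj L').presheaf.obj (Opposite.op ⊤)}
    (hσ' : Cyc.IsZeroSchemeOf j ((Scheme.Modules.pullback i).obj L') σ')
    {N : D'.Modules} (hN : PicF.IsInvertible N) (φ : (Scheme.Modules.pullback i').obj L ≅ N)
    {σ : N.presheaf.obj (Opposite.op ⊤)} (hσ : Cyc.IsZeroSchemeOf j' N σ)
    {k : ℤ} (α : AlgebraicCycle X ℤ) (hα : α ∈ Cyc.Zk X δ k) {w : (ξ : X) → Cyc.secFibre L ξ} (hw : ∀ ξ, w ξ ≠ 0)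
    {w' : (ξ : X) → Cyc.secFibre L' ξ} (hw' : ∀ ξ, w' ξ ≠ 0)
    {w₁ : (d : D) → Cyc.secFibre ((Scheme.Modules.pullback i).obj L') d} (hw₁ : ∀ d, w₁ d ≠ 0)
    {w₂ : (d : D') → Cyc.secFibre N d} (hw₂ : ∀ d, w₂ d ≠ 0)
    (γ : D → ℤ) (hγ : γ = fun d => Cyc.c1CapFun δ L ⇑α (Cyc.gysinChoice L s w) (i d))
    (γ' : AlgebraicCycle D' ℤ) (hγ'k : γ' ∈ Cyc.Zk D' (fun d => δ (i' d)) (k - 1))
    (hγ' : ∀ d, γ' d = Cyc.c1CapFun δ L' ⇑α (Cyc.gysinChoice L' s' w') (i' d))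
    (ζ₁ ζ₂ : AlgebraicCycle Z ℤ)
    (h₁ : ∀ z, ζ₁ z = Cyc.c1CapFun (fun d => δ (i d)) ((Scheme.Modules.pullback i).obj L') γ
      (Cyc.gysinChoice ((Scheme.Modules.pullback i).obj L') σ' w₁) (j z))
    (h₂ : ∀ z, ζ₂ z = Cyc.c1CapFun (fun d => δ (i' d)) N ⇑γ'
      (Cyc.gysinChoice N σ w₂) (j' z)) :
    Cyc.RatEquiv (fun z => δ (i (j z))) (k - 2) ζ₁ ζ₂ := by
  obtain ⟨ΦL, hΦ⟩ := CycCommLib.exists_frames_of_section hL i hD
  obtain ⟨ΦN, hΦ'⟩ := CycCommLib.exists_frames_of_section hL' i' hD'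
  have hcond : ∀ z, i (j z) = i' (j' z) := fun z => by
    rw [← Scheme.Hom.comp_apply, hp.w, Scheme.Hom.comp_apply]
  let q : Z ⟶ X := j ≫ i
  obtain ⟨hsZ, -⟩ := CycPushLib.setup_of_closedImmersion q hX
  have hsD' := (CycPushLib.setup_of_closedImmersion i' hX).1
  let C := CycC1Lib.capCyc hX hL α ΦL.sec_ne_zero
  let C' := CycC1Lib.capCyc hX hL' α ΦN.sec_ne_zero
  let A := CycGysLib.restrictCyc q (CycC1Lib.capCyc hX hL' C ΦN.sec_ne_zero)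
  let B := CycGysLib.restrictCyc q (CycC1Lib.capCyc hX hL C' ΦL.sec_ne_zero)
  have hfam := CycCommLib.cap_cap_family hX hL hL' α hα ΦN.sec_ne_zero ΦL ΦN (fun p => p ∈ Set.range q)
    (fun ξ p h hne hne' => by
      obtain ⟨d, rfl⟩ := CycCommLib.mem_range_of_ne hΦ ξ p h hne
      obtain ⟨d', hd'⟩ := CycCommLib.mem_range_of_ne hΦ' ξ (i d) h hne'
      obtain ⟨z, hz⟩ : d ∈ Set.range j := by
        rw [← range_preimage_of_isPullback hp]
        exact ⟨d', hd'⟩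
      exact ⟨z, (Scheme.Hom.comp_apply j i z).trans (congrArg i hz)⟩)
  rw [show k - 1 = k - 2 + 1 by ring] at hfam
  have hAB : Cyc.RatEquiv (fun z => δ (q z)) (k - 2) A B :=
    CycCommLib.DivFamily.restrict hX q hfam fun _ => rfl
  have e₁ := CycCommLib.gysin_side hX hL hD hΦ hL' hD' hΦ' hσ' hp.isoPullback.symm hp.isoPullback_inv_fst
    α hα hw hw₁ γ hγ ζ₁ A h₁ fun _ => rfl
  have hLi : PicF.IsInvertible ((Scheme.Modules.pullback i').obj L) := AmpleDevLib.isInvertible_pb i' hL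
  let σ₀ := φ.inv.app ⊤ σ
  have hσ₀ : Cyc.IsZeroSchemeOf j' ((Scheme.Modules.pullback i').obj L) σ₀ := isZeroSchemeOf_map φ.symm hσ
  obtain ⟨Φ₀⟩ := CycCommLib.exists_frames hLi
  let ζ' := CycGysLib.restrictCyc j'
    (CycC1Lib.capCyc hsD' hLi γ' (CycGysLib.gysinChoice_ne_zero σ₀ Φ₀.sec_ne_zero))
  have e₂ := CycCommLib.gysin_side hX hL' hD' hΦ' hL hD hΦ hσ₀ hp.flip.isoPullback.symm
    hp.flip.isoPullback_inv_fst α hα hw' Φ₀.sec_ne_zero ⇑γ' (funext hγ') ζ' B (fun _ => rfl)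
    fun z => congrArg (Cyc.c1CapFun δ L (⇑C') ΦL.sec) (hcond z)
  have e₃ : Cyc.RatEquiv (fun z => δ (i' (j' z))) (k - 2) ζ' ζ₂ :=
    gysin_indep hsD' hLi hN φ hσ₀ hσ γ' (by rw [show k - 2 + 1 = k - 1 by ring]; exact hγ'k)
      Φ₀.sec_ne_zero hw₂ ζ' ζ₂ (fun _ => rfl) h₂
  have hδ : (fun z => δ (i' (j' z))) = fun z => δ (i (j z)) := funext fun z => congrArg δ (hcond z).symm
  rw [hδ] at e₂ e₃
  exact CycCommLib.ratEquiv_trans (δ := fun z => δ (q z)) hsZ e₁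
    (CycCommLib.ratEquiv_trans (δ := fun z => δ (q z)) hsZ hAB
      (CycCommLib.ratEquiv_trans (δ := fun z => δ (q z)) hsZ
        (CycCommLib.ratEquiv_symm (δ := fun z => δ (q z)) hsZ e₂) e₃))

end CycBivLib

end
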