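import Mathlib
import Groth.Prelude.Def_Bivar2
import Groth.Agent.CycBivLib.Chow
import Groth.Agent.CycBivLib.GysinCore
import Groth.Agent.CycBivLib.IsoPush
import Groth.Agent.FibDimLib.Comps
import Groth.Agent.S1856
import Groth.Agent.S1857

/-!
# The class of a flat morphism
-/

set_option autoImplicit false
set_option linter.style.haveILetI false
set_option linter.unusedSectionVars false

universe u

open AlgebraicGeometry CategoryTheory CategoryTheory.Limits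

noncomputable section

namespace CycBivLib

variable {X Y : Scheme.{u}} {δX : X → ℤ} {δY : Y → ℤ} (hY : Cyc.IsSetup Y δY) {f : X ⟶ Y} [Flat f]
  [LocallyOfFiniteType f] {r : ℕ} (hr : Cyc.HasRelDim f r) (hδ : Cyc.DeltaCompat f δX δY)

theorem setupY (hY : Cyc.IsSetup Y δY) (s : Bivar.Sq f δX δY) : Cyc.IsSetup s.Y' s.δY' :=
  haveI := s.lft
  isSetup_of_lft s.g hY s.compatY

theorem flat_sq (s : Bivar.Sq f δX δY) : Flat s.f' :=
  MorphismProperty.of_isPullback s.isPullback.flip ‹Flat f›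

theorem lft_sq (s : Bivar.Sq f δX δY) : LocallyOfFiniteType s.f' :=
  MorphismProperty.of_isPullback s.isPullback.flip ‹LocallyOfFiniteType f›

include hr in
theorem relDim_sq (s : Bivar.Sq f δX δY) : Cyc.HasRelDim s.f' r :=
  FibDimLib.hasRelDim_baseChange s.isPullback.flip hr

include hδ in
theorem compat_sq (s : Bivar.Sq f δX δY) : Cyc.DeltaCompat s.f' s.δX' s.δY' :=
  deltaCompat_cancel s.f' s.g s.isPullback.w s.compatY
    (Bivar.deltaCompat_comp s.g' f s.δX' δX δY s.compatX hδ)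

include hY hδ in
theorem setupX (s : Bivar.Sq f δX δY) : Cyc.IsSetup s.X' s.δX' :=
  haveI := lft_sq s
  isSetup_of_lft s.f' (setupY hY s) (compat_sq hδ s)

include hr hδ in
theorem gen_sq (s : Bivar.Sq f δX δY) :
    ∀ x, CycLimLib.IsGen s.f' x → s.δX' x = s.δY' (s.f' x) + (r : ℤ) :=
  haveI := lft_sq s
  fun _ hx => CycLimLib.delta_eq_of_gen s.f' (compat_sq hδ s) (relDim_sq hr s) hx

/-- The representative of flat pullback. -/
def flatRep (s : Bivar.Sq f δX δY) (α : AlgebraicCycle s.Y' ℤ) : AlgebraicCycle s.X' ℤ :=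
  CycC1Lib.pullCyc s.f' (setupX hY hδ s) (gen_sq hr hδ s) α

theorem flatRep_mem (s : Bivar.Sq f δX δY) {k : ℤ} {α : AlgebraicCycle s.Y' ℤ}
    (hα : α ∈ Cyc.Zk s.Y' s.δY' k) : flatRep hY hr hδ s α ∈ Cyc.Zk s.X' s.δX' (k - -(r : ℤ)) := by
  rw [sub_neg_eq_add]
  exact CycC1Lib.pullCyc_mem_Zk s.f' _ (gen_sq hr hδ s) hα

/-- Flat pullback on Chow groups. -/
def flatOp (s : Bivar.Sq f δX δY) (k : ℤ) :
    ChowOps.CH s.Y' s.δY' k →+ ChowOps.CH s.X' s.δX' (k - -(r : ℤ)) :=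
  descend (AddMonoidHom.mk' (fun a => ChowOps.cl (flatRep hY hr hδ s a.1) (flatRep_mem hY hr hδ s a.2))
    fun a b => by
      rw [← Bivar.cl_add]
      exact Bivar.cl_congr (Function.locallyFinsuppWithin.ext fun d =>
        congrFun (Bivar.pullFun_add s.f' s.δX' s.δY' r ⇑a.1 ⇑b.1) d) _ _)
    fun a ha => by
      haveI := flat_sq s
      haveI := lft_sq s
      refine (cl_eq_cl _ (ChowOps.zk s.X' s.δX' (k - -(r : ℤ))).zero_mem ?_).trans Bivar.cl_zero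
      rw [sub_neg_eq_add]
      exact Groth.Agent.S1856.result s.X' s.Y' s.δX' s.δY' (setupX hY hδ s) (setupY hY s) s.f' r (relDim_sq hr s)
        (compat_sq hδ s) k a.1 0 a.2 (ChowOps.zk s.Y' s.δY' k).zero_mem
        (by show Cyc.RatEquivZero s.δY' k (_ - 0); rw [sub_zero]; exact ha)
        (flatRep hY hr hδ s a.1) 0 rfl
        (by rw [Function.locallyFinsuppWithin.coe_zero, Function.locallyFinsuppWithin.coe_zero, Bivar.pullFun_zero])

theorem flatOp_cl (s : Bivar.Sq f δX δY) (k : ℤ) (α : AlgebraicCycle s.Y' ℤ) (hα : α ∈ Cyc.Zk s.Y' s.δY' k) :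
    flatOp hY hr hδ s k (ChowOps.cl α hα) = ChowOps.cl (flatRep hY hr hδ s α) (flatRep_mem hY hr hδ s hα) := rfl

theorem isPullback_squares {X Y : Scheme.{u}} {f : X ⟶ Y} {δX : X → ℤ} {δY : Y → ℤ} {s t : Bivar.Sq f δX δY}
    {h : t.Y' ⟶ s.Y'} {h' : t.X' ⟶ s.X'}
    (w₁ : h ≫ s.g = t.g) (w₂ : h' ≫ s.f' = t.f' ≫ h) (w₃ : h' ≫ s.g' = t.g') :
    IsPullback t.f' h' h s.f' := by
  have ht := t.isPullback
  rw [← w₁, ← w₃] at ht
  exact IsPullback.of_bot ht w₂.symm s.isPullback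

theorem flat_push (s t : Bivar.Sq f δX δY) (h : t.Y' ⟶ s.Y') [IsProper h] (h' : t.X' ⟶ s.X') [IsProper h']
    (w₁ : h ≫ s.g = t.g) (w₂ : h' ≫ s.f' = t.f' ≫ h) (w₃ : h' ≫ s.g' = t.g') (k : ℤ) :
    Bivar.PushOK t.δY' t.δX' s.δY' s.δX' h h' (flatOp hY hr hδ t k) (flatOp hY hr hδ s k) := by
  intro α hα
  haveI := flat_sq s
  haveI := lft_sq s
  refine ⟨flatRep hY hr hδ t α, flatRep_mem hY hr hδ t hα, flatOp_cl hY hr hδ t k α hα, ?_⟩
  rw [flatOp_cl]
  refine (Bivar.cl_congr ?_ _ _).symm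
  refine Function.locallyFinsuppWithin.ext fun d => congrFun ?_ d
  exact map_pullFun_square (isPullback_squares w₁ w₂ w₃) (setupY hY s) (compat_sq hδ s)
    (deltaCompat_cancel h s.g w₁ s.compatY t.compatY)
    (deltaCompat_cancel h' s.f' w₂ (compat_sq hδ s)
      (Bivar.deltaCompat_comp t.f' h t.δX' t.δY' s.δY' (compat_sq hδ t)
        (deltaCompat_cancel h s.g w₁ s.compatY t.compatY)))
    r (relDim_sq hr s) α (flatRep hY hr hδ t α) rfl (flatRep_mem hY hr hδ t hα)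

theorem flat_pull (s t : Bivar.Sq f δX δY) (h : t.Y' ⟶ s.Y') [Flat h] (h' : t.X' ⟶ s.X') [Flat h'] (q : ℕ)
    (hq : Cyc.HasRelDim h q) (hq' : Cyc.HasRelDim h' q)
    (w₁ : h ≫ s.g = t.g) (w₂ : h' ≫ s.f' = t.f' ≫ h) (w₃ : h' ≫ s.g' = t.g') (k : ℤ) :
    Bivar.PullOK s.δY' s.δX' t.δY' t.δX' h h' (q : ℤ) (flatOp hY hr hδ s k) (flatOp hY hr hδ t (k + q)) := by
  intro α hα
  refine ⟨flatRep hY hr hδ s α, flatRep_mem hY hr hδ s hα, flatOp_cl hY hr hδ s k α hα, fun α₁ hc hα₁ => ?_⟩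
  haveI := flat_sq s
  haveI := lft_sq s
  haveI := flat_sq t
  haveI := lft_sq t
  haveI := t.lft
  haveI : LocallyOfFiniteType (h ≫ s.g) := w₁ ▸ t.lft
  haveI : LocallyOfFiniteType h := locallyOfFiniteType_of_comp h s.g
  haveI : LocallyOfFiniteType h' :=
    MorphismProperty.of_isPullback (isPullback_squares w₁ w₂ w₃) ‹LocallyOfFiniteType h›
  have hδh := deltaCompat_cancel h s.g w₁ s.compatY t.compatY
  have hδh' : Cyc.DeltaCompat h' t.δX' s.δX' :=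
    deltaCompat_cancel h' s.f' w₂ (compat_sq hδ s)
      (Bivar.deltaCompat_comp t.f' h t.δX' t.δY' s.δY' (compat_sq hδ t) hδh)
  let β₁ := CycC1Lib.pullCyc h' (setupX hY hδ t)
    (fun x hx => CycLimLib.delta_eq_of_gen h' hδh' hq' hx) (flatRep hY hr hδ s α)
  refine ⟨β₁, ?_, rfl, ?_⟩
  · rw [show k + (q : ℤ) - -(r : ℤ) = k - -(r : ℤ) + q by ring]
    exact CycC1Lib.pullCyc_mem_Zk h' _ _ (flatRep_mem hY hr hδ s hα)
  rw [flatOp_cl]
  refine Bivar.cl_congr (Function.locallyFinsuppWithin.ext fun d => congrFun ?_ d) _ _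
  show Cyc.pullFun t.f' t.δX' t.δY' r ⇑α₁ = Cyc.pullFun h' t.δX' s.δX' q (Cyc.pullFun s.f' s.δX' s.δY' r ⇑α)
  have e1 := (Groth.Agent.S1857.result t.X' t.Y' s.Y' t.δX' t.δY' s.δY' (setupX hY hδ t) (setupY hY t)
    (setupY hY s) t.f' h r q (relDim_sq hr t) hq (compat_sq hδ t) hδh k).2 α hα
  have e2 := (Groth.Agent.S1857.result t.X' s.X' s.Y' t.δX' s.δX' s.δY' (setupX hY hδ t) (setupX hY hδ s)
    (setupY hY s) h' s.f' q r hq' (relDim_sq hr s) hδh' (compat_sq hδ s) k).2 α hα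
  rw [hc, e1, e2, w₂, add_comm (r : ℤ)]

theorem flat_gysin (s t : Bivar.Sq f δX δY) (i : t.Y' ⟶ s.Y') [IsClosedImmersion i] (j : t.X' ⟶ s.X')
    [IsClosedImmersion j] (w₁ : i ≫ s.g = t.g) (w₂ : j ≫ s.f' = t.f' ≫ i) (w₃ : j ≫ s.g' = t.g')
    (L : s.Y'.Modules) (hL : PicF.IsInvertible L) (σ : L.presheaf.obj (Opposite.op ⊤))
    (hσ : Cyc.IsZeroSchemeOf i L σ) (τ : ((Scheme.Modules.pullback s.f').obj L).presheaf.obj (Opposite.op ⊤))
    (hτ : Cyc.IsZeroSchemeOf j ((Scheme.Modules.pullback s.f').obj L) τ) (k : ℤ) :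
    Bivar.GysinOK s.δY' t.δY' s.δX' t.δX' i L σ j ((Scheme.Modules.pullback s.f').obj L) τ
      (flatOp hY hr hδ s k) (flatOp hY hr hδ t (k - 1)) := by
  intro α hα
  refine ⟨flatRep hY hr hδ s α, flatRep_mem hY hr hδ s hα, flatOp_cl hY hr hδ s k α hα,
    fun v hv γ hγc hγ w' hw' => ?_⟩
  haveI := flat_sq s
  haveI := lft_sq s
  have hp := (isPullback_squares w₁ w₂ w₃).flip
  have hL' : PicF.IsInvertible ((Scheme.Modules.pullback s.f').obj L) := AmpleDevLib.isInvertible_pb s.f' hL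
  have eY := deltaCompat_immersion_eq i (deltaCompat_cancel i s.g w₁ s.compatY t.compatY)
  have eX : t.δX' = fun z => s.δX' (j z) := deltaCompat_immersion_eq j
    (deltaCompat_cancel j s.f' w₂ (compat_sq hδ s)
      (Bivar.deltaCompat_comp t.f' i t.δX' t.δY' s.δY' (compat_sq hδ t)
        (deltaCompat_cancel i s.g w₁ s.compatY t.compatY)))
  let ζ := CycGysLib.restrictCyc j (CycC1Lib.capCyc (setupX hY hδ s) hL' (flatRep hY hr hδ s α)
    (CycGysLib.gysinChoice_ne_zero τ hw'))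
  have hζ : ζ ∈ Cyc.Zk t.X' t.δX' (k - 1 - -(r : ℤ)) := by
    rw [eX, show k - 1 - -(r : ℤ) = k - -(r : ℤ) - 1 by ring]
    exact CycCommLib.restrictCyc_mem_Zk j (CycCommLib.capCyc_mem_Zk (setupX hY hδ s) hL'
      (by rw [sub_add_cancel]; exact flatRep_mem hY hr hδ s hα) _)
  refine ⟨ζ, hζ, fun _ => rfl, ?_⟩
  rw [flatOp_cl]
  refine (cl_eq_cl _ _ ?_).symm
  rw [eX, sub_neg_eq_add]
  refine gysin_pull_core (setupY hY s) (setupX hY hδ s) (gen_sq hr hδ s) hp hL hσ hL' (Iso.refl _) hτ α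
    (by rw [sub_add_cancel]; exact hα) hv hw' ζ _ (fun _ => rfl) ?_
  rw [← eX, ← eY, ← funext hγc]
  rfl

/-- The flat pullback class. -/
def flatClass : Bivar.Cl (-(r : ℤ)) f δX δY where
  op := flatOp hY hr hδ
  push s t h _ h' _ w₁ w₂ w₃ k := flat_push hY hr hδ s t h h' w₁ w₂ w₃ k
  pull s t h _ h' _ q hq hq' w₁ w₂ w₃ k := flat_pull hY hr hδ s t h h' q hq hq' w₁ w₂ w₃ k
  gysin s t i _ j _ w₁ w₂ w₃ L hL σ hσ τ hτ k := flat_gysin hY hr hδ s t i j w₁ w₂ w₃ L hL σ hσ τ hτ k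

theorem isFlatPullClass_flatClass : Bivar.IsFlatPullClass f r (flatClass hY hr hδ) :=
  ⟨‹Flat f›, ‹LocallyOfFiniteType f›, hr, hδ, fun s k α hα α₁ hc hα₁ =>
    (flatOp_cl hY hr hδ s k α hα).trans
      (Bivar.cl_congr (Function.locallyFinsuppWithin.ext fun d => (congrFun hc d).symm) _ _)⟩

end CycBivLib

end
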