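import Mathlib
import Groth.Prelude.Def_Bivar2
import Groth.Agent.CycBivLib.Chow
import Groth.Agent.CycBivLib.C1
import Groth.Agent.CycBivLib.GysinCore
import Groth.Agent.CycBivLib.IsoPush
import Groth.Agent.CycPushLib.Proper
import Groth.Agent.FibDimLib.Comps
import Groth.Agent.UOpenLib.FibreDim
import Groth.Agent.AlgSpLib.FibrePts

/-!
# Proper pushforward of a bivariant class
-/

set_option autoImplicit false
set_option linter.style.haveILetI false
set_option linter.unusedSectionVars false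

universe u

open AlgebraicGeometry CategoryTheory CategoryTheory.Limits

noncomputable section

namespace CycBivLib

/-- Induced dimension functions exist. -/
theorem exists_induced {X Y : Scheme.{u}} (f : X ⟶ Y) [LocallyOfFiniteType f] (δY : Y → ℤ) :
    ∃ δX : X → ℤ, Cyc.DeltaCompat f δX δY := by
  have : ∀ x, ∃ n : ℕ, Dual3.resTrdeg f x = n := fun x => by
    obtain ⟨n, hn⟩ := UOpenLib.exists_fibreClosureDim_eq_nat f x
    rw [AlgSpLib.fibreClosureDim_eq_resTrdeg] at hn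
    exact ⟨n, Cardinal.toENat_eq_nat.1 (by exact_mod_cast hn)⟩
  choose n hn using this
  exact ⟨fun x => δY (f x) + n x, fun x => ⟨n x, hn x, rfl⟩⟩

/-- Proper pushforward on Chow groups. -/
def pushCH {A B : Scheme.{u}} {δA : A → ℤ} {δB : B → ℤ} (hA : Cyc.IsSetup A δA) (hB : Cyc.IsSetup B δB)
    (q : A ⟶ B) [IsProper q] (hq : Cyc.DeltaCompat q δA δB) (k : ℤ) :
    ChowOps.CH A δA k →+ ChowOps.CH B δB k :=
  descend (AddMonoidHom.mk' (fun a => ChowOps.cl (AlgebraicCycle.map q δA δB a.1)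
      (Bivar.cycMap_mem_Zk q δA δB k a.2)) fun a b => by
    rw [← Bivar.cl_add]
    exact Bivar.cl_congr (Bivar.cycMap_add q δA δB a.1 b.1) _ _)
    fun a ha => by
      refine (cl_eq_cl (Bivar.cycMap_mem_Zk q δA δB k a.2)
        (Bivar.cycMap_mem_Zk q δA δB k (ChowOps.zk A δA k).zero_mem)
        (CycPushLib.ratEquiv_map hA hB q hq ?_)).trans ((Bivar.cl_congr (Bivar.cycMap_zero q δA δB) _
          (ChowOps.zk B δB k).zero_mem).trans Bivar.cl_zero)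
      show Cyc.RatEquivZero δA k (_ - 0)
      rwa [sub_zero]

theorem pushCH_cl {A B : Scheme.{u}} {δA : A → ℤ} {δB : B → ℤ} (hA : Cyc.IsSetup A δA) (hB : Cyc.IsSetup B δB)
    (q : A ⟶ B) [IsProper q] (hq : Cyc.DeltaCompat q δA δB) (k : ℤ) (α : AlgebraicCycle A ℤ)
    (hα : α ∈ Cyc.Zk A δA k) :
    pushCH hA hB q hq k (ChowOps.cl α hα) =
      ChowOps.cl (AlgebraicCycle.map q δA δB α) (Bivar.cycMap_mem_Zk q δA δB k hα) := rfl

variable {X Y Z : Scheme.{u}} {δX : X → ℤ} {δY : Y → ℤ} {δZ : Z → ℤ} (hX : Cyc.IsSetup X δX)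
  (hY : Cyc.IsSetup Y δY) {f : X ⟶ Y} [IsProper f] {g : Y ⟶ Z} [LocallyOfFiniteType g]
  (hδf : Cyc.DeltaCompat f δX δY) {p : ℤ} (c : Bivar.Cl p (f ≫ g) δX δZ)

theorem lft_g' (s : Bivar.Sq g δY δZ) : LocallyOfFiniteType s.g' :=
  MorphismProperty.of_isPullback s.isPullback s.lft

/-- The dimension function on the total space. -/
def pDelta (s : Bivar.Sq g δY δZ) : ↥(pullback s.g' f) → ℤ :=
  (exists_induced (pullback.fst s.g' f) s.δX').choose

theorem pCompat_fst (s : Bivar.Sq g δY δZ) :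
    Cyc.DeltaCompat (pullback.fst s.g' f) (pDelta (f := f) s) s.δX' :=
  (exists_induced (pullback.fst s.g' f) s.δX').choose_spec

include hδf in
theorem pCompat_snd (s : Bivar.Sq g δY δZ) :
    Cyc.DeltaCompat (pullback.snd s.g' f) (pDelta (f := f) s) δX :=
  deltaCompat_cancel (pullback.snd s.g' f) f pullback.condition.symm hδf
    (Bivar.deltaCompat_comp (pullback.fst s.g' f) s.g' _ s.δX' δY (pCompat_fst s) s.compatX)

/-- The square over the composite. -/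
@[reducible] def sq2 (s : Bivar.Sq g δY δZ) : Bivar.Sq (f ≫ g) δX δZ where
  Y' := s.Y'
  X' := pullback s.g' f
  g := s.g
  f' := pullback.fst s.g' f ≫ s.f'
  g' := pullback.snd s.g' f
  isPullback := (IsPullback.of_hasPullback s.g' f).paste_horiz s.isPullback
  lft := s.lft
  δY' := s.δY'
  δX' := pDelta (f := f) s
  compatY := s.compatY
  compatX := pCompat_snd hδf s

include hY in
theorem setup_sX (s : Bivar.Sq g δY δZ) : Cyc.IsSetup s.X' s.δX' :=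
  haveI := lft_g' s
  isSetup_of_lft s.g' hY s.compatX

include hX hδf in
theorem setup_P (s : Bivar.Sq g δY δZ) : Cyc.IsSetup (pullback s.g' f) (pDelta (f := f) s) :=
  haveI := lft_g' s
  isSetup_of_lft (pullback.snd s.g' f) hX (pCompat_snd hδf s)

/-- The pushed class. -/
def pcOp (s : Bivar.Sq g δY δZ) (k : ℤ) : ChowOps.CH s.Y' s.δY' k →+ ChowOps.CH s.X' s.δX' (k - p) :=
  (pushCH (setup_P hX hδf s) (setup_sX hY s) (pullback.fst s.g' f) (pCompat_fst s) (k - p)).comp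
    (c.op (sq2 hδf s) k)

theorem pcOp_eq (s : Bivar.Sq g δY δZ) (k : ℤ) (x : ChowOps.CH s.Y' s.δY' k)
    (β : AlgebraicCycle (pullback s.g' f : Scheme.{u}) ℤ)
    (hβ : β ∈ Cyc.Zk (pullback s.g' f : Scheme.{u}) (pDelta (f := f) s) (k - p))
    (h : c.op (sq2 hδf s) k x = ChowOps.cl β hβ) :
    pcOp hX hY hδf c s k x = ChowOps.cl (AlgebraicCycle.map (pullback.fst s.g' f) (pDelta (f := f) s) s.δX' β)
      (Bivar.cycMap_mem_Zk _ _ _ _ hβ) := by
  unfold pcOp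
  rw [AddMonoidHom.comp_apply, h]
  rfl

/-- The induced map of total spaces. -/
def liftMap {s t : Bivar.Sq g δY δZ} (h' : t.X' ⟶ s.X') (w₃ : h' ≫ s.g' = t.g') :
    pullback t.g' f ⟶ pullback s.g' f :=
  pullback.lift (pullback.fst t.g' f ≫ h') (pullback.snd t.g' f)
    (by rw [Category.assoc, w₃]; exact pullback.condition)

theorem liftMap_fst {s t : Bivar.Sq g δY δZ} (h' : t.X' ⟶ s.X') (w₃ : h' ≫ s.g' = t.g') :
    liftMap (f := f) h' w₃ ≫ pullback.fst s.g' f = pullback.fst t.g' f ≫ h' :=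
  pullback.lift_fst _ _ _

theorem liftMap_snd {s t : Bivar.Sq g δY δZ} (h' : t.X' ⟶ s.X') (w₃ : h' ≫ s.g' = t.g') :
    liftMap (f := f) h' w₃ ≫ pullback.snd s.g' f = pullback.snd t.g' f :=
  pullback.lift_snd _ _ _

theorem liftMap_isPullback {s t : Bivar.Sq g δY δZ} (h' : t.X' ⟶ s.X') (w₃ : h' ≫ s.g' = t.g') :
    IsPullback (liftMap (f := f) h' w₃) (pullback.fst t.g' f) (pullback.fst s.g' f) h' := by
  refine (IsPullback.of_bot ?_ (liftMap_fst (f := f) h' w₃).symm (IsPullback.of_hasPullback s.g' f)).flip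
  rw [w₃, liftMap_snd]
  exact IsPullback.of_hasPullback t.g' f

theorem liftMap_w₂ {s t : Bivar.Sq g δY δZ} (h : t.Y' ⟶ s.Y') (h' : t.X' ⟶ s.X')
    (w₂ : h' ≫ s.f' = t.f' ≫ h) (w₃ : h' ≫ s.g' = t.g') :
    liftMap (f := f) h' w₃ ≫ pullback.fst s.g' f ≫ s.f' = (pullback.fst t.g' f ≫ t.f') ≫ h := by
  rw [← Category.assoc, liftMap_fst, Category.assoc, w₂, Category.assoc]

include hδf in
theorem compat_liftMap {s t : Bivar.Sq g δY δZ} (h' : t.X' ⟶ s.X') (w₃ : h' ≫ s.g' = t.g') :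
    Cyc.DeltaCompat (liftMap (f := f) h' w₃) (pDelta (f := f) t) (pDelta (f := f) s) :=
  deltaCompat_cancel _ (pullback.snd s.g' f) (liftMap_snd h' w₃) (pCompat_snd hδf s) (pCompat_snd hδf t)

theorem pc_push (s t : Bivar.Sq g δY δZ) (h : t.Y' ⟶ s.Y') [IsProper h] (h' : t.X' ⟶ s.X') [IsProper h']
    (w₁ : h ≫ s.g = t.g) (w₂ : h' ≫ s.f' = t.f' ≫ h) (w₃ : h' ≫ s.g' = t.g') (k : ℤ) :
    Bivar.PushOK t.δY' t.δX' s.δY' s.δX' h h' (pcOp hX hY hδf c t k) (pcOp hX hY hδf c s k) := by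
  intro α hα
  haveI : IsProper (liftMap (f := f) h' w₃) :=
    MorphismProperty.of_isPullback (liftMap_isPullback h' w₃).flip ‹IsProper h'›
  obtain ⟨β, hβ, e₁, e₂⟩ := c.push (sq2 hδf s) (sq2 hδf t) h (liftMap (f := f) h' w₃) w₁
    (liftMap_w₂ h h' w₂ w₃) (liftMap_snd h' w₃) k α hα
  refine ⟨_, _, pcOp_eq hX hY hδf c t k _ β hβ e₁, ?_⟩
  refine (pcOp_eq hX hY hδf c s k _ _ _ e₂).trans (Bivar.cl_congr ?_ _ _)
  have hh' := deltaCompat_cancel h' s.g' w₃ s.compatX t.compatX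
  have a := Groth.Agent.S1859.result _ _ _ _ _ _ (setup_P hX hδf t) (setup_P hX hδf s) (setup_sX hY s)
    (liftMap (f := f) h' w₃) (pullback.fst s.g' f) (compat_liftMap hδf h' w₃) (pCompat_fst s) (k - p) β hβ
  have b := Groth.Agent.S1859.result _ _ _ _ _ _ (setup_P hX hδf t) (setup_sX hY t) (setup_sX hY s)
    (pullback.fst t.g' f) h' (pCompat_fst t) hh' (k - p) β hβ
  have key : ∀ {m₁ m₂ : (pullback t.g' f : Scheme.{u}) ⟶ s.X'} [IsProper m₁] [IsProper m₂], m₁ = m₂ →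
      AlgebraicCycle.map m₁ (pDelta (f := f) t) s.δX' β = AlgebraicCycle.map m₂ (pDelta (f := f) t) s.δX' β :=
    fun hm => by subst hm; rfl
  exact a.trans ((key (liftMap_fst h' w₃)).trans b.symm)

theorem pc_pull (s t : Bivar.Sq g δY δZ) (h : t.Y' ⟶ s.Y') [Flat h] (h' : t.X' ⟶ s.X') [Flat h'] (r : ℕ)
    (hr : Cyc.HasRelDim h r) (hr' : Cyc.HasRelDim h' r)
    (w₁ : h ≫ s.g = t.g) (w₂ : h' ≫ s.f' = t.f' ≫ h) (w₃ : h' ≫ s.g' = t.g') (k : ℤ) :
    Bivar.PullOK s.δY' s.δX' t.δY' t.δX' h h' (r : ℤ) (pcOp hX hY hδf c s k) (pcOp hX hY hδf c t (k + r)) := by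
  intro α hα
  haveI := lft_g' t
  haveI := lft_g' s
  haveI : LocallyOfFiniteType (h' ≫ s.g') := w₃ ▸ lft_g' t
  haveI : LocallyOfFiniteType h' := locallyOfFiniteType_of_comp h' s.g'
  have hpb := liftMap_isPullback (f := f) h' w₃
  haveI : Flat (liftMap (f := f) h' w₃) := MorphismProperty.of_isPullback hpb.flip ‹Flat h'›
  have hr'' : Cyc.HasRelDim (liftMap (f := f) h' w₃) r := FibDimLib.hasRelDim_baseChange hpb.flip hr'
  obtain ⟨β, hβ, e₁, H⟩ := c.pull (sq2 hδf s) (sq2 hδf t) h (liftMap (f := f) h' w₃) r hr hr'' w₁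
    (liftMap_w₂ h h' w₂ w₃) (liftMap_snd h' w₃) k α hα
  have hh' := deltaCompat_cancel h' s.g' w₃ s.compatX t.compatX
  refine ⟨_, _, pcOp_eq hX hY hδf c s k _ β hβ e₁, fun α₁ hc hα₁ => ?_⟩
  obtain ⟨β₁, hβ₁, hc₁, e₂⟩ := H α₁ hc hα₁
  refine ⟨_, Bivar.cycMap_mem_Zk (pullback.fst t.g' f) (pDelta (f := f) t) t.δX' _ hβ₁, ?_,
    pcOp_eq hX hY hδf c t (k + r) _ β₁ hβ₁ e₂⟩
  exact map_pullFun_square hpb (setup_sX hY s) hh' (pCompat_fst s) (pCompat_fst t) r hr' β β₁ hc₁ hβ₁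

theorem pc_gysin (s t : Bivar.Sq g δY δZ) (i : t.Y' ⟶ s.Y') [IsClosedImmersion i] (j : t.X' ⟶ s.X')
    [IsClosedImmersion j] (w₁ : i ≫ s.g = t.g) (w₂ : j ≫ s.f' = t.f' ≫ i) (w₃ : j ≫ s.g' = t.g')
    (L : s.Y'.Modules) (hL : PicF.IsInvertible L) (σ : L.presheaf.obj (Opposite.op ⊤))
    (hσ : Cyc.IsZeroSchemeOf i L σ) (τ : ((Scheme.Modules.pullback s.f').obj L).presheaf.obj (Opposite.op ⊤))
    (hτ : Cyc.IsZeroSchemeOf j ((Scheme.Modules.pullback s.f').obj L) τ) (k : ℤ) :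
    Bivar.GysinOK s.δY' t.δY' s.δX' t.δX' i L σ j ((Scheme.Modules.pullback s.f').obj L) τ
      (pcOp hX hY hδf c s k) (pcOp hX hY hδf c t (k - 1)) := by
  intro α hα
  have hpb := liftMap_isPullback (f := f) j w₃
  haveI : IsClosedImmersion (liftMap (f := f) j w₃) :=
    MorphismProperty.of_isPullback hpb.flip ‹IsClosedImmersion j›
  have hL' : PicF.IsInvertible ((Scheme.Modules.pullback s.f').obj L) := AmpleDevLib.isInvertible_pb s.f' hL
  have hN : PicF.IsInvertible ((Scheme.Modules.pullback (pullback.fst s.g' f ≫ s.f')).obj L) :=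
    AmpleDevLib.isInvertible_pb _ hL
  let φ : KFlatLib.pb (pullback.fst s.g' f) ((Scheme.Modules.pullback s.f').obj L) ≅
      (Scheme.Modules.pullback (pullback.fst s.g' f ≫ s.f')).obj L := (sqIso (pullback.fst s.g' f) s.f' rfl L).symm
  let τ' := φ.hom.app ⊤ (CycGysLib.pbSec (pullback.fst s.g' f) τ)
  have hτ' : Cyc.IsZeroSchemeOf (liftMap (f := f) j w₃)
      ((Scheme.Modules.pullback (pullback.fst s.g' f ≫ s.f')).obj L) τ' :=
    isZeroSchemeOf_map φ (isZeroSchemeOf_square hpb hL' hτ)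
  obtain ⟨β, hβ, e₁, H⟩ := c.gysin (sq2 hδf s) (sq2 hδf t) i (liftMap (f := f) j w₃) w₁
    (liftMap_w₂ i j w₂ w₃) (liftMap_snd j w₃) L hL σ hσ τ' hτ' k α hα
  refine ⟨_, _, pcOp_eq hX hY hδf c s k _ β hβ e₁, fun v hv γ hγc hγ w' hw' => ?_⟩
  obtain ⟨w₀, hw₀⟩ := exists_sections hN
  obtain ⟨ζ₀, hζ₀, hc₀, e₂⟩ := H v hv γ hγc hγ w₀ hw₀
  have eX : (fun z => s.δX' (j z)) = t.δX' := (deltaCompat_immersion_eq j
    (deltaCompat_cancel j s.g' w₃ s.compatX t.compatX)).symm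
  have eP : (fun z => pDelta (f := f) s (liftMap (f := f) j w₃ z)) = pDelta (f := f) t :=
    (deltaCompat_immersion_eq _ (compat_liftMap hδf j w₃)).symm
  let ζ := CycGysLib.restrictCyc j (CycC1Lib.capCyc (setup_sX hY s) hL'
    (AlgebraicCycle.map (pullback.fst s.g' f) (pDelta (f := f) s) s.δX' β)
    (CycGysLib.gysinChoice_ne_zero τ hw'))
  have hζ : ζ ∈ Cyc.Zk t.X' t.δX' (k - 1 - p) := by
    rw [← eX, show k - 1 - p = k - p - 1 by ring]
    exact CycCommLib.restrictCyc_mem_Zk j (CycCommLib.capCyc_mem_Zk (setup_sX hY s) hL'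
      (by rw [sub_add_cancel]; exact Bivar.cycMap_mem_Zk _ _ _ _ hβ) _)
  refine ⟨ζ, hζ, fun _ => rfl, (pcOp_eq hX hY hδf c t (k - 1) _ ζ₀ hζ₀ e₂).trans (cl_eq_cl _ _ ?_)⟩
  rw [← eX, ← eP, show k - 1 - p = k - p - 1 by ring]
  exact gysin_push_core (setup_sX hY s) (setup_P hX hδf s) (pCompat_fst s) hpb hL' hτ hN φ hτ' β
    (by rw [sub_add_cancel]; exact hβ) hw' hw₀ ζ₀ hc₀ ζ fun _ => rfl

/-- The proper pushforward of a bivariant class. -/
def pushClass : Bivar.Cl p g δY δZ where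
  op := pcOp hX hY hδf c
  push s t h _ h' _ w₁ w₂ w₃ k := pc_push hX hY hδf c s t h h' w₁ w₂ w₃ k
  pull s t h _ h' _ r hr hr' w₁ w₂ w₃ k := pc_pull hX hY hδf c s t h h' r hr hr' w₁ w₂ w₃ k
  gysin s t i _ j _ w₁ w₂ w₃ L hL σ hσ τ hτ k := pc_gysin hX hY hδf c s t i j w₁ w₂ w₃ L hL σ hσ τ hτ k

theorem isProperPushClass_pushClass : Bivar.IsProperPushClass f g c (pushClass hX hY hδf c) := by
  refine ⟨‹IsProper f›, hδf, fun s X' f' _ gX hp δX' hX' k α hα β hβ heq => ?_⟩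
  let t : Bivar.Sq (f ≫ g) δX δZ :=
    ⟨s.Y', X', s.g, f' ≫ s.f', gX, hp.paste_horiz s.isPullback, s.lft, s.δY', δX', s.compatY, hX'⟩
  let e : X' ≅ pullback s.g' f := hp.isoPullback
  obtain ⟨β₀, hβ₀, e₁, e₂⟩ := c.push (sq2 hδf s) t (𝟙 s.Y') e.hom (Category.id_comp _)
    (by
      show e.hom ≫ pullback.fst s.g' f ≫ s.f' = (f' ≫ s.f') ≫ 𝟙 _
      rw [Category.comp_id, ← Category.assoc, hp.isoPullback_hom_fst])
    hp.isoPullback_hom_snd k α hα
  haveI := lft_g' s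
  haveI : LocallyOfFiniteType gX := MorphismProperty.of_isPullback hp (lft_g' s)
  have hX'' : Cyc.IsSetup X' δX' := isSetup_of_lft gX hX hX'
  have hδe : Cyc.DeltaCompat e.hom δX' (pDelta (f := f) s) :=
    deltaCompat_cancel e.hom (pullback.snd s.g' f) hp.isoPullback_hom_snd (pCompat_snd hδf s) hX'
  have hδf' : Cyc.DeltaCompat f' δX' s.δX' := by
    have := Bivar.deltaCompat_comp e.hom (pullback.fst s.g' f) δX' _ s.δX' hδe (pCompat_fst s)
    rwa [hp.isoPullback_hom_fst] at this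
  have hmap : AlgebraicCycle.map (𝟙 s.Y') s.δY' s.δY' α = α :=
    Function.locallyFinsuppWithin.ext fun y => map_iso_apply (Iso.refl s.Y') s.δY' α y
  have hrep : c.op (sq2 hδf s) k (ChowOps.cl α hα) =
      ChowOps.cl (AlgebraicCycle.map e.hom δX' (pDelta (f := f) s) β) (Bivar.cycMap_mem_Zk _ _ _ _ hβ) := by
    refine ((congrArg (c.op (sq2 hδf s) k) (Bivar.cl_congr hmap.symm hα (Bivar.cycMap_mem_Zk _ _ _ _ hα))).trans
      e₂).trans (cl_eq_cl _ _ ?_)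
    exact CycPushLib.ratEquiv_map hX'' (setup_P hX hδf s) e.hom hδe
      (ratEquiv_of_cl_eq hX'' hβ₀ hβ (e₁.symm.trans heq))
  refine (pcOp_eq hX hY hδf c s k _ _ _ hrep).trans (Bivar.cl_congr ?_ _ _)
  have key : ∀ {m₁ m₂ : X' ⟶ s.X'} [IsProper m₁] [IsProper m₂], m₁ = m₂ →
      AlgebraicCycle.map m₁ δX' s.δX' β = AlgebraicCycle.map m₂ δX' s.δX' β :=
    fun hm => by subst hm; rfl
  exact (Groth.Agent.S1859.result _ _ _ _ _ _ hX'' (setup_P hX hδf s) (setup_sX hY s) e.hom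
    (pullback.fst s.g' f) hδe (pCompat_fst s) (k - p) β hβ).trans (key hp.isoPullback_hom_fst)

end CycBivLib

end
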