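import Mathlib
import Groth.Prelude.Def_Bivar2
import Groth.Agent.CycBivLib.Clopen
import Groth.Agent.CycBivLib.Disjoint
import Groth.Agent.CycBivLib.PushCl
import Groth.Agent.CycBivLib.FlatCl
import Groth.Agent.NagataFG.Closure

/-!
# Bivariant classes are tested on birational modifications of integral schemes
-/

set_option autoImplicit false
set_option linter.style.haveILetI false
set_option linter.unusedSectionVars false

universe u

open AlgebraicGeometry CategoryTheory CategoryTheory.Limits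

noncomputable section

namespace CycBivLib

variable {T S : Scheme.{u}}

theorem residueFieldMap_bijective_of_surjective (f : T ⟶ S) (x : T)
    (hs : Function.Surjective (f.stalkMap x).hom) : Function.Bijective (f.residueFieldMap x).hom := by
  refine ⟨RingHom.injective _, fun z => ?_⟩
  obtain ⟨a, rfl⟩ := T.residue_surjective x z
  obtain ⟨b, rfl⟩ := hs a
  exact ⟨S.residue (f x) b, congrArg (fun φ : S.presheaf.stalk (f x) ⟶ T.residueField x => φ b)
    (Scheme.residue_residueFieldMap f x)⟩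

theorem residueDegree_eq_one_of_surjective (f : T ⟶ S) (x : T)
    (hs : Function.Surjective (f.stalkMap x).hom) : f.residueDegree x = 1 := by
  unfold AlgebraicGeometry.Scheme.Hom.residueDegree
  letI := (f.residueFieldMap x).hom.toAlgebra
  have hb : Function.Bijective (algebraMap (S.residueField (f x)) (T.residueField x)) :=
    residueFieldMap_bijective_of_surjective f x hs
  rw [← Algebra.finrank_eq_of_equiv_equiv (RingEquiv.refl (S.residueField (f x)))
    (RingEquiv.ofBijective _ hb) (by ext; rfl)]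
  exact Module.finrank_self _

theorem delta_eq_of_surjective (f : T ⟶ S) (x : T) (hs : Function.Surjective (f.stalkMap x).hom)
    {δT : T → ℤ} {δS : S → ℤ} (h : Cyc.DeltaCompat f δT δS) : δT x = δS (f x) := by
  obtain ⟨n, hn, hd⟩ := h x
  have h0 : Dual3.resTrdeg f x = 0 := by
    unfold Dual3.resTrdeg
    letI := (f.residueFieldMap x).hom.toAlgebra
    haveI : Module.Finite (S.residueField (f x)) (T.residueField x) :=
      Module.Finite.of_surjective (Algebra.linearMap (S.residueField (f x)) (T.residueField x))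
        (residueFieldMap_bijective_of_surjective f x hs).2
    exact trdeg_eq_zero
  have : n = 0 := by exact_mod_cast hn.symm.trans h0
  simp [hd, this]

/-- A pushforward with a single contributing point of degree one. -/
theorem map_apply_of_unique (h : T ⟶ S) [QuasiCompact h] (δT : T → ℤ) (δS : S → ℤ) (γ : AlgebraicCycle T ℤ)
    (t : T) (hd : δT t = δS (h t)) (hdeg : h.residueDegree t = 1)
    (hu : ∀ t', h t' = h t → γ t' ≠ 0 → t' = t) : AlgebraicCycle.map h δT δS γ (h t) = γ t := by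
  show ∑ᶠ a ∈ h ⁻¹' {h t}, γ a * ((AlgebraicCycle.mapCoeff h δT δS a : ℕ) : ℤ) = _
  rw [finsum_mem_inter_support_eq' _ (h ⁻¹' {h t}) {t} fun a ha => ⟨fun h1 => hu a h1 (fun h0 => ha (by
      rw [h0, zero_mul])), fun h1 => by rw [Set.mem_singleton_iff.1 h1]; rfl⟩, finsum_mem_singleton]
  simp [AlgebraicCycle.mapCoeff, hd, hdeg]

theorem map_apply_eq_zero (h : T ⟶ S) [QuasiCompact h] (δT : T → ℤ) (δS : S → ℤ) (γ : AlgebraicCycle T ℤ)
    (y : S) (hy : ∀ t, h t = y → γ t = 0) : AlgebraicCycle.map h δT δS γ y = 0 :=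
  finsum_mem_eq_zero_of_forall_eq_zero fun a ha => by rw [hy a ha, zero_mul]

/-- The cycle supported at one point. -/
def pointCycle (x : T) (n : ℤ) : AlgebraicCycle T ℤ :=
  haveI := Classical.decEq T
  { toFun := Pi.single x n
    supportWithinDomain' := by simp
    supportLocallyFiniteWithinDomain' := fun y _ => ⟨Set.univ, Filter.univ_mem,
      (Set.finite_singleton x).subset fun z hz => by
        by_contra hne
        exact hz.2 (Pi.single_eq_of_ne (M := fun _ => ℤ) (fun h => hne h) n)⟩ }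

theorem pointCycle_self (x : T) (n : ℤ) : pointCycle x n x = n := by
  classical
  show Pi.single (M := fun _ => ℤ) x n x = n
  simp

theorem pointCycle_ne {x y : T} (n : ℤ) (h : y ≠ x) : pointCycle x n y = 0 := by
  classical
  show Pi.single (M := fun _ => ℤ) x n y = 0
  simp [h]

variable {X Y : Scheme.{u}} {δX : X → ℤ} {δY : Y → ℤ} {f : X ⟶ Y}

/-- The square on a test scheme over a test scheme. -/
@[reducible] def sqOf (s : Bivar.Sq f δX δY) {Z : Scheme.{u}} (q : Z ⟶ s.Y') [LocallyOfFiniteType q] :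
    Bivar.Sq s.f' s.δX' s.δY' where
  Y' := Z
  X' := pullback q s.f'
  g := q
  f' := pullback.fst q s.f'
  g' := pullback.snd q s.f'
  isPullback := IsPullback.of_hasPullback q s.f'
  lft := inferInstance
  δY' := (exists_induced q s.δY').choose
  δX' := (exists_induced (pullback.snd q s.f') s.δX').choose
  compatY := (exists_induced q s.δY').choose_spec
  compatX := (exists_induced (pullback.snd q s.f') s.δX').choose_spec

theorem setup_X' (hX : Cyc.IsSetup X δX) (s : Bivar.Sq f δX δY) : Cyc.IsSetup s.X' s.δX' :=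
  haveI : LocallyOfFiniteType s.g' := MorphismProperty.of_isPullback s.isPullback s.lft
  isSetup_of_lft s.g' hX s.compatX

/-- A class killing a cycle kills its proper pushforward. -/
theorem op_map_eq_zero (hX : Cyc.IsSetup X δX) {p : ℤ} (c : Bivar.Cl p f δX δY) (s : Bivar.Sq f δX δY)
    (t : Bivar.Sq s.f' s.δX' s.δY') [IsProper t.g] (k : ℤ) (γ : AlgebraicCycle t.Y' ℤ)
    (hγ : γ ∈ Cyc.Zk t.Y' t.δY' k) (h : c.op (s.paste t) k (ChowOps.cl γ hγ) = 0) :
    c.op s k (ChowOps.cl (AlgebraicCycle.map t.g t.δY' s.δY' γ) (Bivar.cycMap_mem_Zk _ _ _ _ hγ)) = 0 := by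
  haveI : IsProper t.g' := MorphismProperty.of_isPullback t.isPullback ‹IsProper t.g›
  obtain ⟨β, hβ, e₁, e₂⟩ := c.push s (s.paste t) t.g t.g' rfl t.isPullback.w.symm rfl k γ hγ
  have hset : Cyc.IsSetup (s.paste t).X' (s.paste t).δX' := setup_X' hX (s.paste t)
  refine e₂.trans ?_
  refine (pushCH_cl hset (setup_X' hX s) t.g' t.compatX _ β hβ).symm.trans ?_
  rw [← e₁, h, map_zero]

/-- A class killing a birational modification kills the cycles at the generic point. -/
theorem op_generic_eq_zero (hX : Cyc.IsSetup X δX) {p : ℤ} (c : Bivar.Cl p f δX δY)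
    (s : Bivar.Sq f δX δY) [IsIntegral s.Y'] (t : Bivar.Sq s.f' s.δX' s.δY') [IrreducibleSpace t.Y'] [IsProper t.g]
    (hgen : t.g (genericPoint t.Y') = genericPoint s.Y') (hiso : IsIso (t.g.stalkMap (genericPoint t.Y')))
    (h0 : ∀ (k : ℤ) (α : AlgebraicCycle t.Y' ℤ) (hα : α ∈ Cyc.Zk t.Y' t.δY' k), α (genericPoint t.Y') = 1 →
      (∀ y : t.Y', y ≠ genericPoint t.Y' → α y = 0) → c.op (s.paste t) k (ChowOps.cl α hα) = 0)
    (k : ℤ) (α : AlgebraicCycle s.Y' ℤ) (hα : α ∈ Cyc.Zk s.Y' s.δY' k)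
    (hs : ∀ y, y ≠ genericPoint s.Y' → α y = 0) : c.op s k (ChowOps.cl α hα) = 0 := by
  by_cases hne : α (genericPoint s.Y') = 0
  · have hz : α = 0 := Function.locallyFinsuppWithin.ext fun y => by
      by_cases hy : y = genericPoint s.Y'
      · rw [hy]; exact hne
      · exact hs y hy
    rw [Bivar.cl_congr hz hα (ChowOps.zk _ _ k).zero_mem, Bivar.cl_zero, map_zero]
  set η := genericPoint t.Y' with hη
  have hsurj : Function.Surjective (t.g.stalkMap η).hom :=
    (ConcreteCategory.bijective_of_isIso (t.g.stalkMap η)).2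
  have hd : t.δY' η = s.δY' (t.g η) := delta_eq_of_surjective t.g η hsurj t.compatY
  have hk : t.δY' η = k := by
    by_contra hk
    rw [hd, hgen] at hk
    exact hne (hα _ hk)
  have hγ : pointCycle η 1 ∈ Cyc.Zk t.Y' t.δY' k := fun y hy =>
    pointCycle_ne 1 fun h => hy (h ▸ hk)
  have h1 := op_map_eq_zero hX c s t k (pointCycle η 1) hγ
    (h0 k _ hγ (pointCycle_self η 1) fun y hy => pointCycle_ne 1 hy)
  set m := AlgebraicCycle.map t.g t.δY' s.δY' (pointCycle η 1) with hm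
  have e : α = α (genericPoint s.Y') • m := by
    refine Function.locallyFinsuppWithin.ext fun y => ?_
    show α y = α (genericPoint s.Y') • m y
    by_cases hy : y = genericPoint s.Y'
    · subst hy
      conv_rhs => rw [hm]; arg 2; rw [← hgen]
      rw [map_apply_of_unique t.g _ _ _ η hd (residueDegree_eq_one_of_surjective t.g η hsurj)
        fun a _ ha => by_contra fun h => ha (pointCycle_ne 1 h), pointCycle_self, smul_eq_mul, mul_one]
    · rw [hs y hy, hm, map_apply_eq_zero t.g _ _ _ y fun a ha => pointCycle_ne 1 fun h => hy ?_, smul_zero]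
      rw [← ha, h, hgen]
  have hmk : m ∈ Cyc.Zk s.Y' s.δY' k := Bivar.cycMap_mem_Zk _ _ _ _ hγ
  rw [Bivar.cl_congr e hα ((ChowOps.zk _ _ k).zsmul_mem hmk _)]
  show c.op s k (ChowOps.clHom _ _ k (α (genericPoint s.Y') • ⟨m, hmk⟩)) = 0
  rw [map_zsmul, map_zsmul]
  show _ • c.op s k (ChowOps.cl m hmk) = 0
  rw [h1, smul_zero]

theorem genericPoint_closure {B : Scheme.{u}} (x : B) [IrreducibleSpace (NagataFG.closureIdeal x).subscheme] :
    (NagataFG.closureIdeal x).subschemeι (genericPoint (NagataFG.closureIdeal x).subscheme) = x := by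
  set i := (NagataFG.closureIdeal x).subschemeι
  have hr : Set.range i = closure {x} := by
    rw [Scheme.IdealSheafData.range_subschemeι, NagataFG.closureIdeal,
      Scheme.IdealSheafData.coe_support_vanishingIdeal]
    rfl
  obtain ⟨z, hz⟩ := NagataFG.mem_range x
  have h1 : i (genericPoint _) ⤳ i z := (genericPoint_specializes z).map i.continuous
  rw [show i z = x from hz] at h1
  have h2 : x ⤳ i (genericPoint _) := specializes_iff_mem_closure.2 (by rw [← hr]; exact ⟨_, rfl⟩)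
  exact (h1.antisymm h2).eq

theorem sigma_closed {I : Type u} (W : I → Scheme.{u}) (i : I) : IsClosedImmersion (Sigma.ι W i) := by
  refine IsClosedImmersion.of_isPreimmersion _ ?_
  have h : (Set.range (Sigma.ι W i))ᶜ = ⋃ j ∈ {j | j ≠ i}, Set.range (Sigma.ι W j) := by
    ext y
    simp only [Set.mem_compl_iff, Set.mem_iUnion, Set.mem_setOf_eq, exists_prop]
    constructor
    · intro hy
      obtain ⟨⟨j, w⟩, rfl⟩ := (sigmaMk W).surjective y
      rw [sigmaMk_mk] at hy ⊢
      exact ⟨j, fun e => by subst e; exact hy ⟨w, rfl⟩, w, rfl⟩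
    · rintro ⟨j, hj, a, rfl⟩ ⟨b, hb⟩
      have := (sigmaMk W).injective (a₁ := ⟨i, b⟩) (a₂ := ⟨j, a⟩) (by rw [sigmaMk_mk, sigmaMk_mk]; exact hb)
      exact hj (congrArg Sigma.fst this).symm
  rw [← isOpen_compl_iff, h]
  exact isOpen_biUnion fun j _ => (Sigma.ι W j).isOpenEmbedding.isOpen_range

theorem pieces_sigma {I : Type u} (W : I → Scheme.{u}) : Pieces (∐ W) (Sigma.ι W) := by
  refine ⟨fun i => inferInstance, sigma_closed W, fun {i j} a b h => ?_, fun x => ?_⟩
  · exact congrArg Sigma.fst ((sigmaMk W).injective (a₁ := ⟨i, a⟩) (a₂ := ⟨j, b⟩)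
      (by rw [sigmaMk_mk, sigmaMk_mk]; exact h))
  · obtain ⟨⟨j, w⟩, hw⟩ := (sigmaMk W).surjective x
    rw [sigmaMk_mk] at hw
    exact ⟨j, w, hw⟩

/-- A class killing the fundamental class of every integral test scheme vanishes. -/
theorem cl_eq_zero_of_generic (hX : Cyc.IsSetup X δX) (hY : Cyc.IsSetup Y δY) {p : ℤ} (c : Bivar.Cl p f δX δY)
    (H : ∀ (s : Bivar.Sq f δX δY) [IsIntegral s.Y'] (k : ℤ) (α : AlgebraicCycle s.Y' ℤ)
      (hα : α ∈ Cyc.Zk s.Y' s.δY' k), (∀ y, y ≠ genericPoint s.Y' → α y = 0) →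
        c.op s k (ChowOps.cl α hα) = 0) : c = 0 := by
  refine Bivar.Cl.ext (funext fun s => funext fun k => AddMonoidHom.ext fun x => ?_)
  show c.op s k x = 0
  obtain ⟨α, hα, rfl⟩ := Bivar.exists_rep x
  haveI := s.lft
  let I := {ξ : s.Y' // α ξ ≠ 0}
  let W : I → Scheme.{u} := fun ξ => (NagataFG.closureIdeal ξ.1).subscheme
  let e : ∀ ξ, W ξ ⟶ s.Y' := fun ξ => (NagataFG.closureIdeal ξ.1).subschemeι
  haveI hWint : ∀ ξ, IsIntegral (W ξ) := fun ξ => NagataFG.isIntegral_closure ξ.1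
  haveI he : ∀ ξ, IsClosedImmersion (e ξ) := fun ξ =>
    inferInstanceAs (IsClosedImmersion (NagataFG.closureIdeal ξ.1).subschemeι)
  let η : ∀ ξ, W ξ := fun ξ => genericPoint (W ξ)
  have heη : ∀ ξ, e ξ (η ξ) = ξ.1 := fun ξ => genericPoint_closure ξ.1
  have hfin : IsFinite (Sigma.desc e) := isFinite_sigmaDesc e fun y => by
    obtain ⟨t, ht, hf⟩ := α.supportLocallyFiniteWithinDomain' y trivial
    obtain ⟨U, hUt, hU, hyU⟩ := mem_nhds_iff.1 ht
    refine ⟨⟨U, hU⟩, hyU, (hf.preimage Subtype.val_injective.injOn).subset fun ξ => ?_⟩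
    rintro ⟨w, hw⟩
    refine ⟨hUt ?_, ξ.2⟩
    rw [← heη ξ]
    exact (((genericPoint_specializes w).map (e ξ).continuous).mem_open hU hw)
  set q := Sigma.desc e with hq
  let t := sqOf s q
  let sZ := s.paste t
  have hZset : Cyc.IsSetup sZ.Y' sZ.δY' :=
    haveI := sZ.lft
    isSetup_of_lft sZ.g hY sZ.compatY
  have hδι : ∀ ξ (w : W ξ), sZ.δY' (Sigma.ι W ξ w) = s.δY' (e ξ w) := fun ξ w => by
    have h1 := Bivar.deltaCompat_comp (Sigma.ι W ξ) q (fun a => sZ.δY' (Sigma.ι W ξ a)) sZ.δY' s.δY'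
      (deltaCompat_restrict _) t.compatY
    rw [hq, Sigma.ι_desc] at h1
    exact congrFun (deltaCompat_immersion_eq (e ξ) h1) w
  have hP := pieces_sigma W
  let β : ∀ ξ, AlgebraicCycle (W ξ) ℤ := fun ξ => pointCycle (η ξ) (α ξ.1)
  let α' : AlgebraicCycle sZ.Y' ℤ := glueCyc hP β
  have hα' : α' ∈ Cyc.Zk sZ.Y' sZ.δY' k := glueCyc_mem hP β fun ξ a ha => pointCycle_ne _ fun h => by
    rw [h] at ha
    replace ha : sZ.δY' (Sigma.ι W ξ (η ξ)) ≠ k := ha
    rw [hδι, heη] at ha
    exact ξ.2 (hα _ ha)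
  have hval : ∀ z : sZ.Y', α' z ≠ 0 → ∃ ξ : I, z = Sigma.ι W ξ (η ξ) := fun z hz => by
    obtain ⟨ξ, a, rfl⟩ := hP.cover z
    refine ⟨ξ, congrArg _ (by_contra fun h => hz ?_)⟩
    exact (glueCyc_apply hP β ξ a).trans (pointCycle_ne _ h)
  have hqη : ∀ ξ, q (Sigma.ι W ξ (η ξ)) = ξ.1 := fun ξ => by
    rw [← Scheme.Hom.comp_apply, hq, Sigma.ι_desc]
    exact heη ξ
  haveI : IsProper t.g := inferInstanceAs (IsProper q)
  have hmap : AlgebraicCycle.map t.g t.δY' s.δY' α' = α := by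
    refine Function.locallyFinsuppWithin.ext fun y => ?_
    by_cases hy : α y = 0
    · rw [hy]
      refine map_apply_eq_zero _ _ _ _ y fun a ha => by_contra fun h => ?_
      obtain ⟨ξ, rfl⟩ := hval a h
      exact ξ.2 (by rw [← hqη ξ]; exact (congrArg α ha).trans hy)
    · have hdeg : q.residueDegree (Sigma.ι W ⟨y, hy⟩ (η ⟨y, hy⟩)) = 1 := by
        have h1 := CycPushLib.residueDegree_comp (Sigma.ι W ⟨y, hy⟩) q (η ⟨y, hy⟩)
        rw [CycPushLib.residueDegree_eq_one_of_preimmersion (Sigma.ι W ⟨y, hy⟩), one_mul] at h1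
        rw [← h1, CycPushLib.residueDegree_congr (show Sigma.ι W ⟨y, hy⟩ ≫ q = e ⟨y, hy⟩ by rw [hq, Sigma.ι_desc])]
        exact CycPushLib.residueDegree_eq_one_of_preimmersion _ _
      have := map_apply_of_unique q t.δY' s.δY' α' (Sigma.ι W ⟨y, hy⟩ (η ⟨y, hy⟩))
        (by rw [hqη]; exact (hδι _ _).trans (congrArg s.δY' (heη _))) hdeg fun a ha hne => by
          obtain ⟨ξ, rfl⟩ := hval a hne
          rw [hqη, hqη] at ha
          obtain rfl : ξ = ⟨y, hy⟩ := Subtype.ext ha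
          rfl
      rw [hqη] at this
      exact this.trans ((glueCyc_apply hP β _ _).trans (pointCycle_self _ _))
  rw [← Bivar.cl_congr hmap (Bivar.cycMap_mem_Zk _ _ _ _ hα') hα]
  refine op_map_eq_zero hX c s t k α' hα' ?_
  -- restriction to the pieces
  haveI hιc : ∀ ξ, IsClosedImmersion (Sigma.ι W ξ) := sigma_closed W
  let P : ∀ ξ, Bivar.Sq sZ.f' sZ.δX' sZ.δY' := fun ξ => sqOf sZ (Sigma.ι W ξ)
  haveI hPo : ∀ ξ, IsOpenImmersion (P ξ).g' := fun ξ =>
    MorphismProperty.of_isPullback (P ξ).isPullback (inferInstanceAs (IsOpenImmersion (Sigma.ι W ξ)))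
  haveI hPc : ∀ ξ, IsClosedImmersion (P ξ).g' := fun ξ =>
    MorphismProperty.of_isPullback (P ξ).isPullback (hιc ξ)
  have hrange : ∀ ξ, Set.range (P ξ).g' = sZ.f' ⁻¹' Set.range (Sigma.ι W ξ) := fun ξ =>
    Scheme.Pullback.range_snd (Sigma.ι W ξ) sZ.f'
  have hPX : Pieces sZ.X' (fun ξ => (P ξ).g') := by
    refine ⟨hPo, hPc, fun {i j} a b h => ?_, fun z => ?_⟩
    · obtain ⟨a', ha⟩ : (P i).g' a ∈ sZ.f' ⁻¹' Set.range (Sigma.ι W i) := hrange i ▸ Set.mem_range_self a
      obtain ⟨b', hb⟩ : (P j).g' b ∈ sZ.f' ⁻¹' Set.range (Sigma.ι W j) := hrange j ▸ Set.mem_range_self b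
      exact hP.eq_of_eq a' b' (ha.trans ((congrArg sZ.f' h).trans hb.symm))
    · obtain ⟨ξ, a, ha⟩ := hP.cover (sZ.f' z)
      obtain ⟨v, hv⟩ : z ∈ Set.range (P ξ).g' := by rw [hrange]; exact ⟨a, ha⟩
      exact ⟨ξ, v, hv⟩
  have hsX := setup_X' hX sZ
  refine ext_pieces hsX hPX (fun ξ => (P ξ).compatX) fun ξ => ?_
  rw [map_zero]
  obtain ⟨b, hb, e₁, He⟩ := c.pull sZ (sZ.paste (P ξ)) (Sigma.ι W ξ) (P ξ).g' 0
    (hasRelDim_openImmersion _) (hasRelDim_openImmersion _) rfl (P ξ).isPullback.w.symm rfl k α' hα'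
  have hdY : (P ξ).δY' = fun w => sZ.δY' (Sigma.ι W ξ w) :=
    deltaCompat_immersion_eq (Sigma.ι W ξ) (P ξ).compatY
  have hdX : (P ξ).δX' = fun w => sZ.δX' ((P ξ).g' w) := deltaCompat_immersion_eq (P ξ).g' (P ξ).compatX
  obtain ⟨b₁, hb₁, hb₁c, e₂⟩ := He (CycGysLib.restrictCyc (Sigma.ι W ξ) α')
    (funext fun w => by
      show α' _ = Cyc.pullFun (Sigma.ι W ξ) (P ξ).δY' _ _ _ w
      rw [hdY, Nat.cast_zero, pullFun_openImmersion])
    (by rw [Nat.cast_zero, add_zero]; exact restrictCyc_mem_of_compat (Sigma.ι W ξ) (P ξ).compatY hα')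
  haveI : IsIntegral (sZ.paste (P ξ)).Y' := hWint ξ
  have hzero := H (sZ.paste (P ξ)) (k + ((0 : ℕ) : ℤ)) (CycGysLib.restrictCyc (Sigma.ι W ξ) α')
    (by rw [Nat.cast_zero, add_zero]; exact restrictCyc_mem_of_compat (Sigma.ι W ξ) (P ξ).compatY hα')
    fun w hw => (glueCyc_apply hP β ξ w).trans (pointCycle_ne _ hw)
  rw [e₁]
  refine (resCH_cl hsX (P ξ).g' (P ξ).compatX _ b hb).trans (Eq.trans (cl_eq_cl _ (ChowOps.zk _ _ _).zero_mem ?_)
    Bivar.cl_zero)
  have hr := ratEquiv_of_cl_eq (setup_X' hX (sZ.paste (P ξ))) hb₁ (ChowOps.zk _ _ _).zero_mem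
    ((e₂.symm.trans hzero).trans Bivar.cl_zero.symm)
  have hb₁e : b₁ = CycGysLib.restrictCyc (P ξ).g' b := Function.locallyFinsuppWithin.ext fun w => by
    rw [hb₁c]
    show Cyc.pullFun (P ξ).g' (P ξ).δX' _ _ _ w = _
    rw [hdX, Nat.cast_zero, pullFun_openImmersion]
    rfl
  rw [hb₁e, Nat.cast_zero, add_zero] at hr
  exact hr

end CycBivLib

end
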