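import Mathlib
import Groth.Agent.AmpleThLib.FiniteSet
import Groth.Agent.MiscFlat6.AmpleGen
import Groth.Agent.MiscFlat6.AmpleFamilyRel

/-!
# Sections of twists of an invertible module avoiding finitely many points
-/

set_option autoImplicit false
set_option linter.style.haveILetI false

universe u

open AlgebraicGeometry CategoryTheory TopologicalSpace
open AmpleLib AmpleThLib
open TwistLib (genSet)
open MiscFlat6 (tensorMod_isInvertible)

noncomputable section

namespace CycBivLib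

variable {X : Scheme.{u}}

/-- An invertible module with a section generating at every point of the set. -/
def Avoids (F : Set X) (N : X.Modules) : Prop :=
  ∃ (hN : PicF.IsInvertible N) (τ : Γ(N, ⊤)), F ⊆ genSet hN τ

variable {A : X.Modules} {F : Set X}

/-- Sections vanishing at all but one point of an antichain. -/
theorem exists_isolating (hA : CohB1.IsAmple A) (hF : F.Finite) (hanti : ∀ z ∈ F, ∀ z' ∈ F, z' ⤳ z → z' = z) :
    ∃ (n : ℕ) (σ : X → Γ(CohB1.tensorPow A n, ⊤)), 0 < n ∧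
      ∀ z ∈ F, z ∈ genSet (tensorPow_isInvertible hA.1 n) (σ z) ∧
        ∀ z' ∈ F, z' ≠ z → z' ∉ genSet (tensorPow_isInvertible hA.1 n) (σ z) := by
  classical
  haveI : CompactSpace X := hA.2.1
  haveI := AmpleThLib.quasiSeparatedSpace_of_isAmple hA
  let U : X → X.Opens := fun z => ⟨(⋃ z' ∈ F \ {z}, closure {z'})ᶜ,
    (Set.Finite.isClosed_biUnion (hF.subset Set.diff_subset) fun _ _ => isClosed_closure).isOpen_compl⟩
  have hU : ∀ z ∈ F, z ∈ U z := fun z hz => by
    show z ∉ ⋃ z' ∈ F \ {z}, closure {z'}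
    rw [Set.mem_iUnion₂]
    rintro ⟨z', ⟨hz', hne⟩, hcl⟩
    exact hne (hanti z hz z' hz' (specializes_iff_mem_closure.2 hcl))
  choose n V hn hV hzV haff hle using fun z : hF.toFinset =>
    exists_locus_le hA.1 hA (hU z.1 (hF.mem_toFinset.1 z.2))
  let N := ∏ z : hF.toFinset, n z
  have hloc : ∀ z : hF.toFinset, IsLocus hA.1 N (V z) := fun z => by
    obtain ⟨k, hk⟩ : n z ∣ N := Finset.dvd_prod_of_mem _ (Finset.mem_univ z)
    rw [hk]
    refine (hV z).mul_right (Nat.pos_of_ne_zero fun h => ?_)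
    have : 0 < N := Finset.prod_pos fun z _ => hn z
    rw [hk, h, mul_zero] at this
    omega
  choose σ hσ using hloc
  refine ⟨N, fun z => if h : z ∈ hF.toFinset then σ ⟨z, h⟩ else 0, Finset.prod_pos fun z _ => hn z, fun z hz => ?_⟩
  have e := hσ ⟨z, hF.mem_toFinset.2 hz⟩
  beta_reduce
  rw [dif_pos (hF.mem_toFinset.2 hz), e]
  refine ⟨hzV _, fun z' hz' hne h => ?_⟩
  exact (hle ⟨z, hF.mem_toFinset.2 hz⟩ h : z' ∈ U z) (Set.mem_iUnion₂.2 ⟨z', ⟨hz', hne⟩, subset_closure rfl⟩)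

/-- A module generated at every point has a twist with a section avoiding an antichain. -/
theorem avoids_tensor {M : X.Modules} (hM : PicF.IsInvertible M) {n : ℕ} (hA : PicF.IsInvertible A)
    {σ : X → Γ(CohB1.tensorPow A n, ⊤)} (hF : F.Finite)
    (hσ : ∀ z ∈ F, z ∈ genSet (tensorPow_isInvertible hA n) (σ z) ∧
        ∀ z' ∈ F, z' ≠ z → z' ∉ genSet (tensorPow_isInvertible hA n) (σ z))
    (hgen : ∀ z ∈ F, ∃ τ : Γ(M, ⊤), z ∈ genSet hM τ) :
    Avoids F (CohB1.tensorMod M (CohB1.tensorPow A n)) := by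
  classical
  choose τ hτ using fun z : hF.toFinset => hgen z.1 (hF.mem_toFinset.1 z.2)
  refine ⟨tensorMod_isInvertible hM (tensorPow_isInvertible hA n), ∑ z : hF.toFinset, shT (τ z) (σ z.1),
    fun z hz => ?_⟩
  refine AmpleThLib.mem_genSet_sum _ (a := ⟨z, hF.mem_toFinset.2 hz⟩) (Finset.mem_univ _) ?_ fun b _ hb => ?_
  · rw [MiscFlat6.mem_genSet_shT hM (tensorPow_isInvertible hA n)]
    exact ⟨hτ _, (hσ z hz).1⟩
  · rw [MiscFlat6.mem_genSet_shT hM (tensorPow_isInvertible hA n)]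
    exact fun h => (hσ b.1 (hF.mem_toFinset.1 b.2)).2 z hz (fun e => hb (Subtype.ext e.symm)) h.2

theorem avoids_pow (hA : PicF.IsInvertible A) {n : ℕ} {σ : X → Γ(CohB1.tensorPow A n, ⊤)} (hF : F.Finite)
    (hσ : ∀ z ∈ F, z ∈ genSet (tensorPow_isInvertible hA n) (σ z) ∧
        ∀ z' ∈ F, z' ≠ z → z' ∉ genSet (tensorPow_isInvertible hA n) (σ z)) :
    Avoids F (CohB1.tensorPow A n) := by
  classical
  refine ⟨tensorPow_isInvertible hA n, ∑ z ∈ hF.toFinset, σ z, fun z hz => ?_⟩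
  exact AmpleThLib.mem_genSet_sum _ (hF.mem_toFinset.2 hz) (hσ z hz).1
    fun b hb hne => (hσ b (hF.mem_toFinset.1 hb)).2 z hz hne.symm

/-- Every invertible module is a difference of modules with avoiding sections. -/
theorem exists_avoids (hA : CohB1.IsAmple A) {L : X.Modules} (hL : PicF.IsInvertible L) (hF : F.Finite)
    (hanti : ∀ z ∈ F, ∀ z' ∈ F, z' ⤳ z → z' = z) :
    ∃ B A' : X.Modules, Avoids F B ∧ Avoids F A' ∧ Avoids F (CohB1.tensorMod (CohB1.tensorMod B L) A') := by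
  obtain ⟨n, σ, hn, hσ⟩ := exists_isolating hA hF hanti
  obtain ⟨N, hN⟩ := MiscFlat6.exists_gen_twist hA hL
  obtain ⟨hI, τ, hτ⟩ := avoids_pow hA.1 hF hσ
  have hlocus : IsLocus hA.1 (n * (N + 1)) (genSet hI τ) := IsLocus.mul_right ⟨τ, rfl⟩ (Nat.succ_pos N)
  obtain ⟨ρ, hρ⟩ := hlocus
  refine ⟨CohB1.tensorPow A (n * (N + 1)), CohB1.tensorPow A n,
    ⟨tensorPow_isInvertible hA.1 _, ρ, by rw [hρ]; exact hτ⟩, avoids_pow hA.1 hF hσ,
    avoids_tensor (tensorMod_isInvertible (tensorPow_isInvertible hA.1 _) hL) hA.1 hF hσ fun z _ =>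
      hN _ ((Nat.le_succ N).trans (Nat.le_mul_of_pos_left _ hn)) z⟩

end CycBivLib

end
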