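import Mathlib
import Groth.Prelude.Def_Bivar2
import Groth.Agent.S6454
import Groth.Agent.KFlatLib.PullTensor
import Groth.Agent.CycBivLib.Avoid
import Groth.Agent.CycBivLib.Birational
import Groth.Agent.CycBivLib.C1
import Groth.Agent.CycBivLib.PushCl

/-!
# Products of first Chern classes beyond the dimension vanish
-/

set_option autoImplicit false
set_option linter.style.haveILetI false
set_option linter.unusedSectionVars false

universe u

open AlgebraicGeometry CategoryTheory CategoryTheory.Limits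
open TwistLib (genSet)

noncomputable section

namespace CycBivLib

variable {X : Scheme.{u}} {δX : X → ℤ}

theorem chCast_trans {Y : Scheme.{u}} {δ : Y → ℤ} {a b c : ℤ} (e : a = b) (e' : b = c) (y : ChowOps.CH Y δ a) :
    Bivar.chCast Y δ e' (Bivar.chCast Y δ e y) = Bivar.chCast Y δ (e.trans e') y := by
  subst e e'; rfl

theorem op_chCast {p : ℤ} (c : Bivar.OpCl p X δX) (s : Bivar.OSq X δX) {a b : ℤ} (e : a = b)
    (y : ChowOps.CH s.Y s.δ a) :
    c.op s b (Bivar.chCast s.Y s.δ e y) = Bivar.chCast s.Y s.δ (congrArg (· - p) e) (c.op s a y) := by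
  subst e; rfl

/-- The composite of a sequence of operational classes of degree one. -/
def run (s : Bivar.OSq X δX) : (m : ℕ) → (ℕ → Bivar.OpCl 1 X δX) → (k : ℤ) →
    (ChowOps.CH s.Y s.δ k →+ ChowOps.CH s.Y s.δ (k - (m : ℤ)))
  | 0, _, k => (Bivar.chCast s.Y s.δ (by simp)).toAddMonoidHom
  | m + 1, c, k => ((Bivar.chCast s.Y s.δ (by push_cast; ring)).toAddMonoidHom.comp
      (run s m (fun j => c (j + 1)) (k - 1))).comp ((c 0).op s k)

theorem run_succ (s : Bivar.OSq X δX) (m : ℕ) (c : ℕ → Bivar.OpCl 1 X δX) (k : ℤ)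
    (h : k - 1 - (m : ℤ) = k - ((m + 1 : ℕ) : ℤ)) (y : ChowOps.CH s.Y s.δ k) :
    run s (m + 1) c k y = Bivar.chCast s.Y s.δ h (run s m (fun j => c (j + 1)) (k - 1) ((c 0).op s k y)) := rfl

theorem run_eq (s : Bivar.OSq X δX) : ∀ (m : ℕ) (c : ℕ → Bivar.OpCl 1 X δX) (k : ℤ)
    (x : (j : ℕ) → ChowOps.CH s.Y s.δ (k - (j : ℤ))),
    (∀ j, j < m → (c j).op s (k - (j : ℤ)) (x j) = Bivar.chCast s.Y s.δ
      (((congrArg (fun t : ℤ => k - t) (Nat.cast_succ j)).trans (sub_sub k (j : ℤ) 1).symm)) (x (j + 1))) →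
    run s m c k (Bivar.chCast s.Y s.δ (by simp) (x 0)) = x m
  | 0, c, k, x, _ => by
    show Bivar.chCast s.Y s.δ _ (Bivar.chCast s.Y s.δ _ (x 0)) = x 0
    rw [chCast_trans]
    rfl
  | m + 1, c, k, x, hx => by
    have ih := run_eq s m (fun j => c (j + 1)) (k - 1)
      (fun j => Bivar.chCast s.Y s.δ (by push_cast; ring) (x (j + 1))) fun j hj => by
      rw [op_chCast, hx (j + 1) (Nat.succ_lt_succ hj), chCast_trans, chCast_trans]
    rw [run_succ s m c k (by push_cast; ring), op_chCast, hx 0 (Nat.succ_pos m), chCast_trans]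
    rw [chCast_trans] at ih
    rw [ih, chCast_trans]
    rfl

variable {s t : Bivar.OSq X δX}

theorem pushCH_chCast {A B : Scheme.{u}} {δA : A → ℤ} {δB : B → ℤ} (hA : Cyc.IsSetup A δA) (hB : Cyc.IsSetup B δB)
    (q : A ⟶ B) [IsProper q] (hq : Cyc.DeltaCompat q δA δB) {a b : ℤ} (e : a = b) (y : ChowOps.CH A δA a) :
    pushCH hA hB q hq b (Bivar.chCast A δA e y) = Bivar.chCast B δB e (pushCH hA hB q hq a y) := by
  subst e; rfl

theorem osq_compat (h : t.Y ⟶ s.Y) (w : h ≫ s.g = t.g) : Cyc.DeltaCompat h t.δ s.δ :=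
  haveI := s.lft
  deltaCompat_cancel h s.g w s.compat t.compat

theorem op_pushCH (hX : Cyc.IsSetup X δX) {p : ℤ} (c : Bivar.OpCl p X δX) (h : t.Y ⟶ s.Y) [IsProper h]
    (w : h ≫ s.g = t.g) (k : ℤ) (y : ChowOps.CH t.Y t.δ k) :
    c.op s k (pushCH (sq_isSetup hX t) (sq_isSetup hX s) h (osq_compat h w) k y) =
      pushCH (sq_isSetup hX t) (sq_isSetup hX s) h (osq_compat h w) (k - p) (c.op t k y) := by
  obtain ⟨α, hα, rfl⟩ := Bivar.exists_rep y
  obtain ⟨β, hβ, e₁, e₂⟩ := c.push s t h w k α hα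
  rw [pushCH_cl, e₂, e₁, pushCH_cl]

theorem run_pushCH (hX : Cyc.IsSetup X δX) (h : t.Y ⟶ s.Y) [IsProper h] (w : h ≫ s.g = t.g) :
    ∀ (m : ℕ) (c : ℕ → Bivar.OpCl 1 X δX) (k : ℤ) (y : ChowOps.CH t.Y t.δ k),
      run s m c k (pushCH (sq_isSetup hX t) (sq_isSetup hX s) h (osq_compat h w) k y) =
        pushCH (sq_isSetup hX t) (sq_isSetup hX s) h (osq_compat h w) (k - (m : ℤ)) (run t m c k y)
  | 0, c, k, y => (pushCH_chCast _ _ h _ _ y).symm
  | m + 1, c, k, y => by
    rw [run_succ s m c k (by push_cast; ring), run_succ t m c k (by push_cast; ring), op_pushCH hX (c 0) h w, run_pushCH hX h w m,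
      pushCH_chCast]

theorem isC1Class_op_eq (hX : Cyc.IsSetup X δX) {L : X.Modules} (hL : PicF.IsInvertible L)
    {c : Bivar.OpCl 1 X δX} (hc : Bivar.IsC1Class L c) (s : Bivar.OSq X δX) (k : ℤ) :
    c.op s k = c1Op hX hL s k := AddMonoidHom.ext fun x => by
  obtain ⟨α, hα, rfl⟩ := Bivar.exists_rep x
  rw [c1Op_cl]
  exact hc.2 s k α hα _ (sqSec_ne_zero hL s) _ rfl _

theorem c1Op_tensor (hX : Cyc.IsSetup X δX) {L N : X.Modules} (hL : PicF.IsInvertible L) (hN : PicF.IsInvertible N)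
    (hT : PicF.IsInvertible (CohB1.tensorMod L N)) (s : Bivar.OSq X δX) (k : ℤ) :
    c1Op hX hT s k = c1Op hX hL s k + c1Op hX hN s k := AddMonoidHom.ext fun x => by
  obtain ⟨α, hα, rfl⟩ := Bivar.exists_rep x
  rw [AddMonoidHom.add_apply, c1Op_cl, c1Op_cl, c1Op_cl, ← Bivar.cl_add]
  refine (cl_eq_cl _ _ ?_).symm
  haveI := KFlatLib.isIso_pullθ s.g L N
  let φ : (Scheme.Modules.pullback s.g).obj (CohB1.tensorMod L N) ≅
      CohB1.tensorMod ((Scheme.Modules.pullback s.g).obj L) ((Scheme.Modules.pullback s.g).obj N) :=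
    @asIso _ _ _ _ (KFlatLib.pullθ s.g L N) this
  refine Groth.Agent.S6454.result s.Y s.δ (sq_isSetup hX s) _ _ (pb_invertible s.g hL) (pb_invertible s.g hN) (k - 1)
    α (by rw [sub_add_cancel]; exact hα) _ (sqSec_ne_zero hL s) _ (sqSec_ne_zero hN s)
    (fun ξ => fibMap φ.hom ξ (sqSec hT s ξ)) (fun ξ => fibMap_ne_zero φ (sqSec_ne_zero hT s ξ)) _ _ _ rfl rfl ?_
  exact (c1CapFun_fibMap (sq_isSetup hX s) (pb_invertible s.g hT) φ ⇑α _).symm

theorem secDivFun_eq_zero_of_gen {Y : Scheme.{u}} {δ : Y → ℤ} (hY : Cyc.IsSetup Y δ) {M : Y.Modules} {U : Y.Opens}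
    {e : Γ(M, U)} (he : AmpleLib.GenOn M e) {x ξ : Y} (hx : x ∈ U) (hξ : ξ ∈ U) :
    Cyc.secDivFun δ M ξ (CycC1Lib.fib M (M.presheaf.germ U ξ hξ e)) x = 0 := by
  haveI := hY.1
  rw [CycC1Lib.secDivFun_eq_divFun hY he hx hξ (φ := 1) (one_smul _ _).symm, map_one, Cyc.divFun]
  split_ifs with h
  · have h2 := CycDivLib.ordAt_mul h.1 (CycPushLib.dimBetween_le_one_of_drop hY h.1 h.2)
      (one_ne_zero' (Y.residueField ξ)) (one_ne_zero' (Y.residueField ξ))
    rw [mul_one] at h2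
    omega
  · rfl

/-- The cap with a module having a section is supported off the generating locus. -/
theorem exists_rep_supported {Y : Scheme.{u}} {δ : Y → ℤ} (hY : Cyc.IsSetup Y δ) {M : Y.Modules}
    (hM : PicF.IsInvertible M) {U : Y.Opens} {e : Γ(M, U)} (he : AmpleLib.GenOn M e) (α : AlgebraicCycle Y ℤ) :
    ∃ (v : (ξ : Y) → Cyc.secFibre M ξ) (hv : ∀ ξ, v ξ ≠ 0), ∀ x ∈ U, CycC1Lib.capCyc hY hM α hv x = 0 := by
  classical
  obtain ⟨w, hw⟩ := exists_sections hM
  have hne : ∀ ξ (hξ : ξ ∈ U), CycC1Lib.fib M (M.presheaf.germ U ξ hξ e) ≠ 0 := fun ξ hξ h => by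
    have h1 := (CycC1Lib.fib_smul_eq_zero_iff (he.genAt hξ) 1).1 (by rw [one_smul]; exact h)
    rw [map_one] at h1
    exact one_ne_zero h1
  refine ⟨fun ξ => if h : ξ ∈ U then CycC1Lib.fib M (M.presheaf.germ U ξ h e) else w ξ, fun ξ => ?_, fun x hx => ?_⟩
  · beta_reduce
    split_ifs with h
    · exact hne ξ h
    · exact hw ξ
  · refine finsum_eq_zero_of_forall_eq_zero fun ξ => ?_
    by_cases hsp : ξ ⤳ x ∧ δ x + 1 = δ ξ
    · have hξ := hsp.1.mem_open U.isOpen hx
      beta_reduce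
      rw [dif_pos (show ξ ∈ U from hξ), secDivFun_eq_zero_of_gen hY he hx hξ, mul_zero]
    · rw [CycC1Lib.secDivFun_eq_zero_of_not hsp, mul_zero]

/-- A cycle supported on a closed immersion is a pushforward. -/
theorem map_restrict_of_supported {Y D : Scheme.{u}} {δ : Y → ℤ} (i : D ⟶ Y) [IsClosedImmersion i]
    (γ : AlgebraicCycle Y ℤ) (h : ∀ y ∉ Set.range i, γ y = 0) :
    AlgebraicCycle.map i (fun d => δ (i d)) δ (CycGysLib.restrictCyc i γ) = γ := by
  refine Function.locallyFinsuppWithin.ext fun y => ?_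
  by_cases hy : y ∈ Set.range i
  · obtain ⟨d, rfl⟩ := hy
    rw [map_apply_of_unique i _ _ _ d rfl (CycPushLib.residueDegree_eq_one_of_preimmersion i d)
      fun d' hd' _ => i.isClosedEmbedding.injective hd']
    rfl
  · rw [h y hy]
    exact map_apply_eq_zero i _ _ _ y fun d hd => absurd ⟨d, hd⟩ hy

/-- All chains of irreducible closed subsets inside `Z` are short. -/
def Small (m : ℕ) (Z : Set X) : Prop :=
  ∀ p : LTSeries (TopologicalSpace.IrreducibleCloseds X), ((p.last : Set X) ⊆ Z) → p.length < m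

theorem small_zero {Z : Set X} (hc : IsClosed Z) (h : Small 0 Z) : Z = ∅ := by
  refine Set.eq_empty_iff_forall_notMem.2 fun z hz => ?_
  exact Nat.not_lt_zero _ (h (RelSeries.singleton _ ⟨closure {z}, isIrreducible_singleton.closure, isClosed_closure⟩)
    ((closure_minimal (Set.singleton_subset_iff.2 hz) hc)))

theorem small_step {m : ℕ} {Z Z' : Set X} (hc : IsClosed Z) (h : Small (m + 1) Z) (hc' : IsClosed Z') (hZ' : Z' ⊆ Z)
    {F : Set X} (hFZ : F ⊆ Z) (hcov : ∀ z ∈ Z, ∃ η ∈ F, η ⤳ z) (hF : ∀ η ∈ F, η ∉ Z') : Small m Z' := by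
  intro p hp
  obtain ⟨ξ, hξ⟩ := QuasiSober.sober p.last.isIrreducible p.last.isClosed
  have hξZ : ξ ∈ Z' := hp hξ.mem
  obtain ⟨η, hη, hsp⟩ := hcov ξ (hZ' hξZ)
  let T : TopologicalSpace.IrreducibleCloseds X := ⟨closure {η}, isIrreducible_singleton.closure, isClosed_closure⟩
  have hlt : p.last < T := by
    refine lt_of_le_of_ne (fun y hy => ?_) fun e => hF η hη (hp (by rw [e]; exact subset_closure rfl))
    exact specializes_iff_mem_closure.1 (hsp.trans (hξ.specializes hy))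
  have := h (p.snoc T hlt) (by
    rw [RelSeries.last_snoc]
    exact closure_minimal (Set.singleton_subset_iff.2 (hFZ hη)) hc)
  simpa using this

theorem small_top {d : ℕ} (hd : topologicalKrullDim X ≤ (d : WithBot ℕ∞)) : Small (d + 1) (Set.univ : Set X) :=
  fun p _ => by
    have h := (Order.LTSeries.length_le_krullDim p).trans hd
    have h' : p.length ≤ d := by exact_mod_cast h
    omega

theorem exists_generic_antichain [TopologicalSpace.NoetherianSpace X] {Z : Set X} (hc : IsClosed Z) :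
    ∃ F : Set X, F.Finite ∧ F ⊆ Z ∧ (∀ z ∈ Z, ∃ η ∈ F, η ⤳ z) ∧ ∀ z ∈ F, ∀ z' ∈ F, z' ⤳ z → z' = z := by
  obtain ⟨S, hS, hScl, hSirr, hU⟩ := TopologicalSpace.NoetherianSpace.exists_finite_set_isClosed_irreducible hc
  choose g hg using fun t : S => QuasiSober.sober (hSirr t.1 t.2) (hScl t.1 t.2)
  haveI := hS.to_subtype
  let F₀ : Set X := Set.range g
  have hF₀ : F₀.Finite := Set.finite_range g
  have hF₀Z : F₀ ⊆ Z := by
    rintro _ ⟨t, rfl⟩
    rw [hU]
    exact ⟨t.1, t.2, (hg t).mem⟩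
  refine ⟨{η ∈ F₀ | ∀ η' ∈ F₀, η' ⤳ η → η' = η}, hF₀.subset fun _ h => h.1, fun η h => hF₀Z h.1,
    fun z hz => ?_, fun z hz z' hz' h => hz.2 z' hz'.1 h⟩
  rw [hU] at hz
  obtain ⟨t, ht, hzt⟩ := hz
  obtain ⟨η, hη, hmax⟩ := Set.Finite.exists_maximalFor (fun w : X => closure {w}) {w ∈ F₀ | w ⤳ z}
    (hF₀.subset fun _ h => h.1) ⟨g ⟨t, ht⟩, ⟨_, rfl⟩, (hg ⟨t, ht⟩).specializes hzt⟩
  refine ⟨η, ⟨hη.1, fun η' h' hs => ?_⟩, hη.2⟩
  have hle : closure ({η} : Set X) ≤ closure {η'} := hs.closure_subset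
  exact (hs.antisymm (specializes_iff_closure_subset.2 (hmax ⟨h', hs.trans hη.2⟩ hle))).eq

theorem run_eq_zero (hX : Cyc.IsSetup X δX) {A : X.Modules} (hA : CohB1.IsAmple A) :
    ∀ (m : ℕ) (L : ℕ → X.Modules) (c : ℕ → Bivar.OpCl 1 X δX), (∀ j, j < m → Bivar.IsC1Class (L j) (c j)) →
      ∀ (Z : Set X), IsClosed Z → Small m Z → ∀ (s : Bivar.OSq X δX), Set.range s.g ⊆ Z →
        ∀ (k : ℤ) (x : ChowOps.CH s.Y s.δ k), run s m c k x = 0
  | 0, L, c, _, Z, hZc, hZ, s, hs, k, x => by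
    obtain ⟨α, hα, rfl⟩ := Bivar.exists_rep x
    have : α = 0 := Function.locallyFinsuppWithin.ext fun y => by
      have := hs ⟨y, rfl⟩
      rw [small_zero hZc hZ] at this
      exact absurd this (Set.notMem_empty _)
    rw [Bivar.cl_congr this hα (ChowOps.zk _ _ k).zero_mem, Bivar.cl_zero, map_zero]
  | m + 1, L, c, hc, Z, hZc, hZ, s, hs, k, x => by
    haveI := hX.1
    haveI : CompactSpace X := hA.2.1
    haveI : IsNoetherian X := {}
    obtain ⟨F, hF, hFZ, hcov, hanti⟩ := exists_generic_antichain hZc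
    have key : ∀ (N : X.Modules) (hN : PicF.IsInvertible N), Avoids F N → ∀ x : ChowOps.CH s.Y s.δ k,
        run s m (fun j => c (j + 1)) (k - 1) (c1Op hX hN s k x) = 0 := by
      rintro N hN ⟨hN', τ, hτ⟩ x
      obtain ⟨α, hα, rfl⟩ := Bivar.exists_rep x
      have hsY := sq_isSetup hX s
      let W : s.Y.Opens := s.g ⁻¹ᵁ genSet hN' τ
      let e : Γ(KFlatLib.pb s.g N, W) := AmpleLib.res _ (le_top : W ≤ ⊤) (CycGysLib.pbSec s.g τ)
      have he : AmpleLib.GenOn (KFlatLib.pb s.g N) e := TwistLib.genOn_of_genAt fun y hy =>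
        (AmpleLib.genAt_res (le_top : W ≤ ⊤) (CycGysLib.pbSec s.g τ) hy).2
          (TwistLib.GenAt.puSec s.g (U := ⊤) (hx := trivial) hy)
      obtain ⟨v, hv, hsupp⟩ := exists_rep_supported hsY (pb_invertible s.g hN) he α
      let Z' : Set X := Z ∩ (genSet hN' τ : Set X)ᶜ
      have hZ'c : IsClosed Z' := hZc.inter (genSet hN' τ).2.isClosed_compl
      let C : TopologicalSpace.Closeds s.Y := ⟨s.g ⁻¹' Z', hZ'c.preimage s.g.continuous⟩
      let I := Scheme.IdealSheafData.vanishingIdeal C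
      have hrange : Set.range I.subschemeι = s.g ⁻¹' Z' := by
        rw [Scheme.IdealSheafData.range_subschemeι, Scheme.IdealSheafData.coe_support_vanishingIdeal]
        rfl
      haveI := s.lft
      haveI := hsY.1
      let t : Bivar.OSq X δX := ⟨I.subscheme, I.subschemeι ≫ s.g, inferInstance, fun d => s.δ (I.subschemeι d),
        Bivar.deltaCompat_comp I.subschemeι s.g _ s.δ δX (deltaCompat_restrict _) s.compat⟩
      let γ := CycC1Lib.capCyc hsY (pb_invertible s.g hN) α hv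
      have hγm : γ ∈ Cyc.Zk s.Y s.δ (k - 1) :=
        CycCommLib.capCyc_mem_Zk hsY (pb_invertible s.g hN) (by rw [sub_add_cancel]; exact hα) hv
      have hop : c1Op hX hN s k (ChowOps.cl α hα) = ChowOps.cl γ hγm :=
        capCH_cl hsY (pb_invertible s.g hN) (sqSec_ne_zero hN s) k α hα hv γ rfl hγm
      have hmap : AlgebraicCycle.map I.subschemeι t.δ s.δ (CycGysLib.restrictCyc I.subschemeι γ) = γ :=
        map_restrict_of_supported I.subschemeι γ fun y hy => hsupp y <| by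
          rw [hrange] at hy
          by_contra hyW
          exact hy ⟨hs ⟨y, rfl⟩, hyW⟩
      have hres : CycGysLib.restrictCyc I.subschemeι γ ∈ Cyc.Zk t.Y t.δ (k - 1) :=
        restrictCyc_mem_of_compat I.subschemeι (deltaCompat_restrict _) hγm
      rw [hop, ← Bivar.cl_congr hmap (Bivar.cycMap_mem_Zk _ _ _ _ hres) hγm,
        ← pushCH_cl (sq_isSetup hX t) hsY I.subschemeι (osq_compat (s := s) (t := t) I.subschemeι rfl) (k - 1) _ hres,
        run_pushCH (s := s) (t := t) hX I.subschemeι (rfl : I.subschemeι ≫ s.g = t.g),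
        run_eq_zero hX hA m (fun j => L (j + 1)) (fun j => c (j + 1)) (fun j hj => hc (j + 1) (Nat.succ_lt_succ hj))
          Z' hZ'c (small_step hZc hZ hZ'c Set.inter_subset_left hFZ hcov fun η hη h => h.2 (hτ hη)) t
          (by
            rintro _ ⟨d, rfl⟩
            have : I.subschemeι d ∈ Set.range I.subschemeι := ⟨d, rfl⟩
            rw [hrange] at this
            exact this), map_zero]
    obtain ⟨hL, -⟩ := hc 0 (Nat.succ_pos m)
    obtain ⟨B, A', hB, hA', hT⟩ := exists_avoids hA hL hF hanti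
    obtain ⟨hBi, -⟩ := id hB
    obtain ⟨hAi, -⟩ := id hA'
    obtain ⟨hTi, -⟩ := id hT
    have hBL := MiscFlat6.tensorMod_isInvertible hBi hL
    have hop : c1Op hX hL s k = c1Op hX hTi s k - c1Op hX hBi s k - c1Op hX hAi s k := by
      rw [c1Op_tensor hX hBL hAi hTi, c1Op_tensor hX hBi hL hBL]
      abel
    rw [run_succ s m c k (by push_cast; ring), isC1Class_op_eq hX hL (hc 0 (Nat.succ_pos m)), hop,
      AddMonoidHom.sub_apply, AddMonoidHom.sub_apply]
    simp only [map_sub, key _ hTi hT, key _ hBi hB, key _ hAi hA', sub_zero, map_zero]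

end CycBivLib

end
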