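import Mathlib
import Groth.Prelude.Def_Bivar2
import Groth.Agent.CycBivLib.Clopen
import Groth.Agent.CycBivLib.FlatCl
import Groth.Agent.CycBivLib.GysinCore

/-!
# The pieces of a square over a clopen decomposition of the base
-/

set_option autoImplicit false
set_option linter.style.haveILetI false
set_option linter.unusedSectionVars false

universe u

open AlgebraicGeometry CategoryTheory CategoryTheory.Limits

noncomputable section

namespace CycBivLib

variable {X Y : Scheme.{u}} {δX : X → ℤ} {δY : Y → ℤ} {f : X ⟶ Y} {J : Type u}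

/-- A decomposition of the base into open and closed pieces. -/
structure Decomp (s : J → Bivar.Sq f δX δY) : Prop where
  isOpen : ∀ j, IsOpenImmersion (s j).g
  isClosed : ∀ j, IsClosedImmersion (s j).g
  disj : ∀ {i j : J} (a : (s i).Y') (b : (s j).Y'), (s i).g a = (s j).g b → i = j
  cover : ∀ y : Y, ∃ j, y ∈ Set.range (s j).g

theorem decomp_of (s : J → Bivar.Sq f δX δY) (hopen : ∀ j, IsOpenImmersion (s j).g)
    (hdisj : ∀ j j' : J, j ≠ j' → Disjoint (Set.range (s j).g.base) (Set.range (s j').g.base))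
    (hcov : ∀ y : Y, ∃ j, y ∈ Set.range (s j).g.base) : Decomp s := by
  refine ⟨hopen, fun j => ?_, fun {i j} a b h => ?_, hcov⟩
  · haveI := hopen j
    refine IsClosedImmersion.of_isPreimmersion _ ?_
    have h : (Set.range (s j).g)ᶜ = ⋃ i ∈ {i | i ≠ j}, Set.range (s i).g := by
      ext y
      simp only [Set.mem_compl_iff, Set.mem_iUnion, Set.mem_setOf_eq, exists_prop]
      refine ⟨fun hy => ?_, fun ⟨i, hi, hy⟩ hy' => Set.disjoint_left.1 (hdisj i j hi) hy hy'⟩
      obtain ⟨i, hi⟩ := hcov y
      exact ⟨i, fun e => hy (e ▸ hi), hi⟩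
    rw [← isOpen_compl_iff, h]
    exact isOpen_biUnion fun i _ => (hopen i).base_open.isOpen_range
  · by_contra hne
    exact Set.disjoint_left.1 (hdisj i j hne) ⟨a, rfl⟩ ⟨b, h.symm⟩

variable (s : J → Bivar.Sq f δX δY) (q : Bivar.Sq f δX δY) (j : J)

/-- The piece of the test scheme. -/
abbrev ιY : pullback q.g (s j).g ⟶ q.Y' := pullback.fst q.g (s j).g

/-- The piece of the fibre product. -/
def ιX : pullback (pullback.snd q.g (s j).g) (s j).f' ⟶ q.X' :=
  q.isPullback.lift (pullback.fst _ _ ≫ ιY s q j) (pullback.snd _ _ ≫ (s j).g') (by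
    rw [Category.assoc, pullback.condition, ← Category.assoc, pullback.condition, Category.assoc, Category.assoc,
      (s j).isPullback.w])

theorem ιX_f' : ιX s q j ≫ q.f' = pullback.fst _ _ ≫ ιY s q j := q.isPullback.lift_fst _ _ _

theorem ιX_g' : ιX s q j ≫ q.g' = pullback.snd _ _ ≫ (s j).g' := q.isPullback.lift_snd _ _ _

theorem ιX_isPullback :
    IsPullback (pullback.fst (pullback.snd q.g (s j).g) (s j).f') (ιX s q j) (ιY s q j) q.f' := by
  have h := (IsPullback.of_hasPullback (pullback.snd q.g (s j).g) (s j).f').paste_vert (s j).isPullback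
  rw [← ιX_g' s q j, ← pullback.condition] at h
  exact IsPullback.of_bot h (ιX_f' s q j).symm q.isPullback

variable {s}

theorem ιY_open (H : Decomp s) : IsOpenImmersion (ιY s q j) :=
  MorphismProperty.of_isPullback (IsPullback.of_hasPullback q.g (s j).g).flip (H.isOpen j)

theorem ιY_closed (H : Decomp s) : IsClosedImmersion (ιY s q j) :=
  MorphismProperty.of_isPullback (IsPullback.of_hasPullback q.g (s j).g).flip (H.isClosed j)

theorem ιX_open (H : Decomp s) : IsOpenImmersion (ιX s q j) :=
  MorphismProperty.of_isPullback (ιX_isPullback s q j) (ιY_open q j H)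

theorem ιX_closed (H : Decomp s) : IsClosedImmersion (ιX s q j) :=
  MorphismProperty.of_isPullback (ιX_isPullback s q j) (ιY_closed q j H)

theorem g'_open (H : Decomp s) : IsOpenImmersion (s j).g' :=
  MorphismProperty.of_isPullback (s j).isPullback (H.isOpen j)

/-- The square on a piece. -/
@[reducible] def piece (H : Decomp s) : Bivar.Sq (s j).f' (s j).δX' (s j).δY' :=
  haveI := q.lft
  haveI := ιY_open q j H
  haveI := ιX_open q j H
  { Y' := pullback q.g (s j).g
    X' := pullback (pullback.snd q.g (s j).g) (s j).f'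
    g := pullback.snd q.g (s j).g
    f' := pullback.fst _ _
    g' := pullback.snd _ _
    isPullback := IsPullback.of_hasPullback _ _
    lft := MorphismProperty.of_isPullback (IsPullback.of_hasPullback q.g (s j).g) q.lft
    δY' := fun w => q.δY' (ιY s q j w)
    δX' := fun v => q.δX' (ιX s q j v)
    compatY := deltaCompat_cancel _ (s j).g pullback.condition.symm (s j).compatY
      (Bivar.deltaCompat_comp (ιY s q j) q.g _ q.δY' δY (deltaCompat_restrict (ιY s q j)) q.compatY)
    compatX := deltaCompat_cancel _ (s j).g' (ιX_g' s q j).symm (s j).compatX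
      (Bivar.deltaCompat_comp (ιX s q j) q.g' _ q.δX' δX (deltaCompat_restrict (ιX s q j)) q.compatX) }

variable (H : Decomp s)

include H in
theorem piecesY : Pieces q.Y' (fun j => ιY s q j) := by
  refine ⟨fun j => ιY_open q j H, fun j => ιY_closed q j H, fun {i j} a b h => ?_, fun x => ?_⟩
  · refine H.disj (pullback.snd q.g (s i).g a) (pullback.snd q.g (s j).g b) ?_
    rw [← Scheme.Hom.comp_apply, ← Scheme.Hom.comp_apply, ← pullback.condition, ← pullback.condition,
      Scheme.Hom.comp_apply, Scheme.Hom.comp_apply]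
    exact congrArg q.g h
  · obtain ⟨j, hj⟩ := H.cover (q.g x)
    have hx : x ∈ Set.range (ιY s q j) := by rw [Scheme.Pullback.range_fst]; exact hj
    exact ⟨j, hx⟩

include H in
theorem piecesX : Pieces q.X' (fun j => ιX s q j) := by
  refine ⟨fun j => ιX_open q j H, fun j => ιX_closed q j H, fun {i j} a b h => ?_, fun x => ?_⟩
  · refine (piecesY q H).eq_of_eq (pullback.fst (pullback.snd q.g (s i).g) (s i).f' a)
      (pullback.fst (pullback.snd q.g (s j).g) (s j).f' b) ?_
    rw [← Scheme.Hom.comp_apply, ← Scheme.Hom.comp_apply, ← ιX_f', ← ιX_f', Scheme.Hom.comp_apply,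
      Scheme.Hom.comp_apply]
    exact congrArg q.f' h
  · obtain ⟨j, a, ha⟩ := (piecesY q H).cover (q.f' x)
    exact ⟨j, (range_preimage_of_isPullback (ιX_isPullback s q j).flip).le ⟨a, ha⟩⟩

section Hom

variable {q} {r : Bivar.Sq f δX δY} (h : r.Y' ⟶ q.Y') (h' : r.X' ⟶ q.X') (w₁ : h ≫ q.g = r.g)
  (w₂ : h' ≫ q.f' = r.f' ≫ h) (w₃ : h' ≫ q.g' = r.g')

/-- The map of pieces of test schemes. -/
def hY' : pullback r.g (s j).g ⟶ pullback q.g (s j).g :=
  pullback.lift (ιY s r j ≫ h) (pullback.snd _ _) (by rw [Category.assoc, w₁]; exact pullback.condition)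

theorem hY'_fst : hY' j h w₁ ≫ ιY s q j = ιY s r j ≫ h := pullback.lift_fst _ _ _

theorem hY'_snd : hY' j h w₁ ≫ (piece q j H).g = (piece r j H).g := pullback.lift_snd _ _ _

/-- The map of pieces of fibre products. -/
def hX' : pullback (pullback.snd r.g (s j).g) (s j).f' ⟶ pullback (pullback.snd q.g (s j).g) (s j).f' :=
  pullback.lift (pullback.fst _ _ ≫ hY' j h w₁) (pullback.snd _ _) (by
    rw [Category.assoc, hY', pullback.lift_snd]; exact pullback.condition)

theorem hX'_fst : hX' j h w₁ ≫ (piece q j H).f' = (piece r j H).f' ≫ hY' j h w₁ := pullback.lift_fst _ _ _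

theorem hX'_snd : hX' j h w₁ ≫ (piece q j H).g' = (piece r j H).g' := pullback.lift_snd _ _ _

include w₂ w₃ in
theorem hX'_ι : hX' j h w₁ ≫ ιX s q j = ιX s r j ≫ h' := by
  refine q.isPullback.hom_ext ?_ ?_
  · rw [Category.assoc, Category.assoc, ιX_f', w₂, ← Category.assoc (ιX s r j), ιX_f', hX',
      pullback.lift_fst_assoc, Category.assoc, Category.assoc, hY'_fst]
  · rw [Category.assoc, Category.assoc, ιX_g', w₃, ιX_g', hX', pullback.lift_snd_assoc]

theorem hY'_isPullback : IsPullback (ιY s r j) (hY' (s := s) j h w₁) h (ιY s q j) := by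
  refine IsPullback.of_bot ?_ (hY'_fst j h w₁).symm (IsPullback.of_hasPullback q.g (s j).g)
  rw [w₁, hY', pullback.lift_snd]
  exact IsPullback.of_hasPullback r.g (s j).g

include w₂ w₃ in
theorem hX'_isPullback : IsPullback (ιX s r j) (hX' (s := s) j h w₁) h' (ιX s q j) := by
  refine IsPullback.of_bot ?_ (hX'_ι j h h' w₁ w₂ w₃).symm (ιX_isPullback s q j).flip
  rw [hX', pullback.lift_fst, w₂]
  exact (ιX_isPullback s r j).flip.paste_vert (hY'_isPullback j h w₁)

end Hom

end CycBivLib

end
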