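import Mathlib
import Groth.Prelude.Def_Bivar2
import Groth.Agent.CycBivLib.ClopenSq
import Groth.Agent.CycBivLib.C1

/-!
# Bivariant classes over a clopen decomposition
-/

set_option autoImplicit false
set_option linter.style.haveILetI false
set_option linter.unusedSectionVars false

universe u

open AlgebraicGeometry CategoryTheory CategoryTheory.Limits

noncomputable section

namespace CycBivLib

theorem ratEquiv_of_eq {A : Scheme.{u}} {δ δ' : A → ℤ} (e : δ = δ') {k : ℤ} {α β : AlgebraicCycle A ℤ}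
    (h : Cyc.RatEquiv δ k α β) : Cyc.RatEquiv δ' k α β := e ▸ h

variable {X Y : Scheme.{u}} {δX : X → ℤ} {δY : Y → ℤ} {f : X ⟶ Y} {J : Type u} {p : ℤ}
  (hX : Cyc.IsSetup X δX) (hY : Cyc.IsSetup Y δY) [LocallyOfFiniteType f] {s : J → Bivar.Sq f δX δY}

theorem setupSqY (hY : Cyc.IsSetup Y δY) (q : Bivar.Sq f δX δY) : Cyc.IsSetup q.Y' q.δY' :=
  haveI := q.lft
  isSetup_of_lft q.g hY q.compatY

theorem setupSqX (hX : Cyc.IsSetup X δX) (q : Bivar.Sq f δX δY) : Cyc.IsSetup q.X' q.δX' :=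
  haveI : LocallyOfFiniteType q.g' := MorphismProperty.of_isPullback q.isPullback q.lft
  isSetup_of_lft q.g' hX q.compatX

/-- Restriction to a piece of the test scheme. -/
def resY (H : Decomp s) (q : Bivar.Sq f δX δY) (j : J) (k : ℤ) :
    ChowOps.CH q.Y' q.δY' k →+ ChowOps.CH (piece q j H).Y' (piece q j H).δY' k :=
  haveI := ιY_open q j H
  haveI := ιY_closed q j H
  resCH (setupSqY hY q) (ιY s q j) (deltaCompat_restrict (δ := q.δY') (ιY s q j)) k

/-- Restriction to a piece of the fibre product. -/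
def resX (H : Decomp s) (q : Bivar.Sq f δX δY) (j : J) (k : ℤ) :
    ChowOps.CH q.X' q.δX' k →+ ChowOps.CH (piece q j H).X' (piece q j H).δX' k :=
  haveI := ιX_open q j H
  haveI := ιX_closed q j H
  resCH (setupSqX hX q) (ιX s q j) (deltaCompat_restrict (δ := q.δX') (ιX s q j)) k

/-- The restriction of a cycle to a piece of the test scheme. -/
def rY (H : Decomp s) (q : Bivar.Sq f δX δY) (j : J) (α : AlgebraicCycle q.Y' ℤ) :
    AlgebraicCycle (piece q j H).Y' ℤ :=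
  haveI := ιY_closed q j H
  CycGysLib.restrictCyc (ιY s q j) α

/-- The restriction of a cycle to a piece of the fibre product. -/
def rX (H : Decomp s) (q : Bivar.Sq f δX δY) (j : J) (α : AlgebraicCycle q.X' ℤ) :
    AlgebraicCycle (piece q j H).X' ℤ :=
  haveI := ιX_closed q j H
  CycGysLib.restrictCyc (ιX s q j) α

theorem rY_mem (H : Decomp s) (q : Bivar.Sq f δX δY) (j : J) {k : ℤ} {α : AlgebraicCycle q.Y' ℤ}
    (hα : α ∈ Cyc.Zk q.Y' q.δY' k) : rY H q j α ∈ Cyc.Zk (piece q j H).Y' (piece q j H).δY' k :=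
  fun w hw => hα (ιY s q j w) hw

theorem rX_mem (H : Decomp s) (q : Bivar.Sq f δX δY) (j : J) {k : ℤ} {α : AlgebraicCycle q.X' ℤ}
    (hα : α ∈ Cyc.Zk q.X' q.δX' k) : rX H q j α ∈ Cyc.Zk (piece q j H).X' (piece q j H).δX' k :=
  fun w hw => hα (ιX s q j w) hw

theorem resY_cl (H : Decomp s) (q : Bivar.Sq f δX δY) (j : J) (k : ℤ) (α : AlgebraicCycle q.Y' ℤ)
    (hα : α ∈ Cyc.Zk q.Y' q.δY' k) :
    resY hY H q j k (ChowOps.cl α hα) = ChowOps.cl (rY H q j α) (rY_mem H q j hα) := rfl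

theorem resX_cl (H : Decomp s) (q : Bivar.Sq f δX δY) (j : J) (k : ℤ) (α : AlgebraicCycle q.X' ℤ)
    (hα : α ∈ Cyc.Zk q.X' q.δX' k) :
    resX hX H q j k (ChowOps.cl α hα) = ChowOps.cl (rX H q j α) (rX_mem H q j hα) := rfl

theorem ext_resX (H : Decomp s) (q : Bivar.Sq f δX δY) {k : ℤ} {x y : ChowOps.CH q.X' q.δX' k}
    (h : ∀ j, resX hX H q j k x = resX hX H q j k y) : x = y :=
  haveI := fun j => ιX_open q j H
  haveI := fun j => ιX_closed q j H
  ext_pieces (δP := fun j => (piece q j H).δX') (setupSqX hX q) (piecesX q H)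
    (fun j => deltaCompat_restrict (δ := q.δX') (ιX s q j)) h

theorem exists_resX (H : Decomp s) (q : Bivar.Sq f δX δY) {k : ℤ}
    (z : ∀ j, ChowOps.CH (piece q j H).X' (piece q j H).δX' k) : ∃ x, ∀ j, resX hX H q j k x = z j :=
  haveI := fun j => ιX_open q j H
  haveI := fun j => ιX_closed q j H
  exists_pieces (δP := fun j => (piece q j H).δX') (setupSqX hX q) (piecesX q H)
    (fun j => deltaCompat_restrict (δ := q.δX') (ιX s q j)) z

variable (H : Decomp s) (d : ∀ j, Bivar.Cl p (s j).f' (s j).δX' (s j).δY')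

/-- The class of the glued operation. -/
def glueVal' (q : Bivar.Sq f δX δY) (k : ℤ) (x : ChowOps.CH q.Y' q.δY' k) : ChowOps.CH q.X' q.δX' (k - p) :=
  (exists_resX hX H q (k := k - p) fun j => (d j).op (piece q j H) k (resY hY H q j k x)).choose

theorem resX_glueVal' (q : Bivar.Sq f δX δY) (k : ℤ) (x : ChowOps.CH q.Y' q.δY' k) (j : J) :
    resX hX H q j (k - p) (glueVal' hX hY H d q k x) = (d j).op (piece q j H) k (resY hY H q j k x) :=
  (exists_resX hX H q (k := k - p) fun j => (d j).op (piece q j H) k (resY hY H q j k x)).choose_spec j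

/-- The glued operation. -/
def glueOp (q : Bivar.Sq f δX δY) (k : ℤ) : ChowOps.CH q.Y' q.δY' k →+ ChowOps.CH q.X' q.δX' (k - p) :=
  AddMonoidHom.mk' (glueVal' hX hY H d q k) fun x y => ext_resX hX H q fun j => by
    rw [map_add, resX_glueVal', resX_glueVal', resX_glueVal', map_add, map_add]

theorem resX_glueOp (q : Bivar.Sq f δX δY) (k : ℤ) (x : ChowOps.CH q.Y' q.δY' k) (j : J) :
    resX hX H q j (k - p) (glueOp hX hY H d q k x) = (d j).op (piece q j H) k (resY hY H q j k x) :=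
  resX_glueVal' hX hY H d q k x j

theorem glue_push (q r : Bivar.Sq f δX δY) (h : r.Y' ⟶ q.Y') [IsProper h] (h' : r.X' ⟶ q.X') [IsProper h']
    (w₁ : h ≫ q.g = r.g) (w₂ : h' ≫ q.f' = r.f' ≫ h) (w₃ : h' ≫ q.g' = r.g') (k : ℤ) :
    Bivar.PushOK r.δY' r.δX' q.δY' q.δX' h h' (glueOp hX hY H d r k) (glueOp hX hY H d q k) := by
  intro α hα
  obtain ⟨β, hβ, e⟩ := Bivar.exists_rep (glueOp hX hY H d r k (ChowOps.cl α hα))
  refine ⟨β, hβ, e.symm, ext_resX hX H q fun j => ?_⟩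
  haveI := ιY_closed q j H
  haveI := ιY_closed r j H
  haveI := ιX_closed q j H
  haveI := ιX_closed r j H
  have hpY := hY'_isPullback (s := s) j h w₁
  have hpX := hX'_isPullback (s := s) j h h' w₁ w₂ w₃
  haveI : IsProper (hY' (s := s) j h w₁) := MorphismProperty.of_isPullback hpY ‹IsProper h›
  haveI : IsProper (hX' (s := s) j h w₁) := MorphismProperty.of_isPullback hpX ‹IsProper h'›
  rw [resX_glueOp, resX_cl, resY_cl]
  obtain ⟨β₀, hβ₀, e₀, e₁⟩ := (d j).push (piece q j H) (piece r j H) (hY' (s := s) j h w₁)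
    (hX' (s := s) j h w₁) (hY'_snd j H h w₁) (hX'_fst j H h w₁) (hX'_snd j H h w₁) k (rY H r j α) (rY_mem H r j hα)
  have hEY : rY H q j (AlgebraicCycle.map h r.δY' q.δY' α) =
      AlgebraicCycle.map (hY' (s := s) j h w₁) (piece r j H).δY' (piece q j H).δY' (rY H r j α) :=
    Function.locallyFinsuppWithin.ext fun w => (map_restrict (δ := q.δY') (δ' := r.δY') hpY α w).symm
  have hEX : AlgebraicCycle.map (hX' (s := s) j h w₁) (piece r j H).δX' (piece q j H).δX' (rX H r j β) =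
      rX H q j (AlgebraicCycle.map h' r.δX' q.δX' β) :=
    Function.locallyFinsuppWithin.ext fun w => map_restrict (δ := q.δX') (δ' := r.δX') hpX β w
  have hβj : ChowOps.cl (rX H r j β) (rX_mem H r j hβ) = ChowOps.cl β₀ hβ₀ := by
    rw [← e₀, ← resX_cl hX H r j _ β hβ, e, resX_glueOp, resY_cl]
  have hh' := deltaCompat_cancel _ _ (hX'_snd j H h w₁) (piece q j H).compatX (piece r j H).compatX
  have hsr : Cyc.IsSetup (piece r j H).X' (piece r j H).δX' :=
    (CycPushLib.setup_of_closedImmersion (ιX s r j) (setupSqX hX r)).1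
  have hsq : Cyc.IsSetup (piece q j H).X' (piece q j H).δX' :=
    (CycPushLib.setup_of_closedImmersion (ιX s q j) (setupSqX hX q)).1
  refine (congrArg ((d j).op (piece q j H) k)
    (Bivar.cl_congr hEY _ (Bivar.cycMap_mem_Zk _ _ _ _ (rY_mem H r j hα)))).trans (e₁.trans ?_)
  refine (cl_eq_cl _ (Bivar.cycMap_mem_Zk _ _ _ _ (rX_mem H r j hβ))
    (CycPushLib.ratEquiv_map hsr hsq _ hh' (ratEquiv_of_cl_eq hsr _ _ hβj.symm))).trans (Bivar.cl_congr hEX _ _)

theorem glue_pull (q r : Bivar.Sq f δX δY) (h : r.Y' ⟶ q.Y') [Flat h] (h' : r.X' ⟶ q.X') [Flat h'] (n : ℕ)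
    (hn : Cyc.HasRelDim h n) (hn' : Cyc.HasRelDim h' n)
    (w₁ : h ≫ q.g = r.g) (w₂ : h' ≫ q.f' = r.f' ≫ h) (w₃ : h' ≫ q.g' = r.g') (k : ℤ) :
    Bivar.PullOK q.δY' q.δX' r.δY' r.δX' h h' (n : ℤ) (glueOp hX hY H d q k) (glueOp hX hY H d r (k + n)) := by
  intro α hα
  obtain ⟨β, hβ, e⟩ := Bivar.exists_rep (glueOp hX hY H d q k (ChowOps.cl α hα))
  refine ⟨β, hβ, e.symm, fun α₁ hc hα₁ => ?_⟩
  haveI := r.lft
  haveI : LocallyOfFiniteType (h ≫ q.g) := w₁ ▸ r.lft
  haveI : LocallyOfFiniteType h := locallyOfFiniteType_of_comp h q.g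
  haveI : LocallyOfFiniteType h' :=
    MorphismProperty.of_isPullback (isPullback_squares w₁ w₂ w₃) ‹LocallyOfFiniteType h›
  have hh' : Cyc.DeltaCompat h' r.δX' q.δX' := deltaCompat_cancel h' q.g' w₃ q.compatX r.compatX
  have hhY : Cyc.DeltaCompat h r.δY' q.δY' := deltaCompat_cancel h q.g w₁ q.compatY r.compatY
  have hgen : ∀ x, CycLimLib.IsGen h' x → r.δX' x = q.δX' (h' x) + (n : ℤ) :=
    fun x hx => CycLimLib.delta_eq_of_gen h' hh' hn' hx
  let β₁ := CycC1Lib.pullCyc h' (setupSqX hX r) hgen β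
  have hβ₁ : β₁ ∈ Cyc.Zk r.X' r.δX' (k + n - p) := by
    rw [show k + (n : ℤ) - p = k - p + n by ring]
    exact CycC1Lib.pullCyc_mem_Zk h' _ hgen hβ
  refine ⟨β₁, hβ₁, rfl, ext_resX hX H r fun j => ?_⟩
  haveI := ιY_open q j H
  haveI := ιY_open r j H
  haveI := ιX_open q j H
  haveI := ιX_open r j H
  have hpY := hY'_isPullback (s := s) j h w₁
  have hpX := hX'_isPullback (s := s) j h h' w₁ w₂ w₃
  haveI : Flat (hY' (s := s) j h w₁) := MorphismProperty.of_isPullback hpY ‹Flat h›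
  haveI : Flat (hX' (s := s) j h w₁) := MorphismProperty.of_isPullback hpX ‹Flat h'›
  haveI : LocallyOfFiniteType (hY' (s := s) j h w₁) := MorphismProperty.of_isPullback hpY ‹LocallyOfFiniteType h›
  haveI : LocallyOfFiniteType (hX' (s := s) j h w₁) := MorphismProperty.of_isPullback hpX ‹LocallyOfFiniteType h'›
  have rY' := FibDimLib.hasRelDim_baseChange hpY hn
  have rX' := FibDimLib.hasRelDim_baseChange hpX hn'
  obtain ⟨β₀, hβ₀, e₀, H₀⟩ := (d j).pull (piece q j H) (piece r j H) (hY' (s := s) j h w₁) (hX' (s := s) j h w₁)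
    n rY' rX' (hY'_snd j H h w₁) (hX'_fst j H h w₁) (hX'_snd j H h w₁) k (rY H q j α) (rY_mem H q j hα)
  have hsY : ∀ (t : Bivar.Sq f δX δY), Cyc.IsSetup (piece t j H).Y' (piece t j H).δY' := fun t =>
    haveI := ιY_open t j H
    isSetup_of_lft (ιY s t j) (setupSqY hY t) (deltaCompat_restrict _)
  have hsX : ∀ (t : Bivar.Sq f δX δY), Cyc.IsSetup (piece t j H).X' (piece t j H).δX' := fun t =>
    haveI := ιX_open t j H
    isSetup_of_lft (ιX s t j) (setupSqX hX t) (deltaCompat_restrict _)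
  have hhYj := deltaCompat_cancel _ _ (hY'_snd j H h w₁) (piece q j H).compatY (piece r j H).compatY
  have hhXj := deltaCompat_cancel _ _ (hX'_snd j H h w₁) (piece q j H).compatX (piece r j H).compatX
  have hcomm : ∀ {A A' B B' : Scheme.{u}} {δA : A → ℤ} {δA' : A' → ℤ} (ι' : B' ⟶ A') [IsOpenImmersion ι']
      (hB : B' ⟶ B) [Flat hB] [LocallyOfFiniteType hB] (hA : A' ⟶ A) [Flat hA] [LocallyOfFiniteType hA]
      (ι : B ⟶ A) [IsOpenImmersion ι], ι' ≫ hA = hB ≫ ι → Cyc.IsSetup A δA → Cyc.IsSetup A' δA' →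
      Cyc.DeltaCompat hA δA' δA → Cyc.HasRelDim hA n →
      Cyc.DeltaCompat hB (fun b => δA' (ι' b)) (fun b => δA (ι b)) → Cyc.HasRelDim hB n →
      ∀ {m : ℤ} (γ : AlgebraicCycle A ℤ), γ ∈ Cyc.Zk A δA m → ∀ b,
        Cyc.pullFun hB (fun b => δA' (ι' b)) (fun b => δA (ι b)) n (fun b => γ (ι b)) b =
          Cyc.pullFun hA δA' δA n ⇑γ (ι' b) := by
    intro A A' B B' δA δA' ι' _ hB _ _ hA _ _ ι _ w sA sA' dA rA dB rB m γ hγ b
    have sB := isSetup_of_lft ι sA (deltaCompat_restrict ι)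
    have sB' := isSetup_of_lft ι' sA' (deltaCompat_restrict ι')
    have e1 := (Groth.Agent.S1857.result B' B A (fun b => δA' (ι' b)) (fun b => δA (ι b)) δA sB' sB sA hB ι n 0
      rB (hasRelDim_openImmersion ι) dB (deltaCompat_restrict ι) m).2 γ hγ
    have e2 := (Groth.Agent.S1857.result B' A' A (fun b => δA' (ι' b)) δA' δA sB' sA' sA ι' hA 0 n
      (hasRelDim_openImmersion ι') rA (deltaCompat_restrict ι') dA m).2 γ hγ
    rw [Nat.cast_zero, add_zero, show Cyc.pullFun ι (fun b => δA (ι b)) δA 0 ⇑γ = fun b => γ (ι b) from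
      funext (pullFun_openImmersion ι ⇑γ), ← w] at e1
    rw [Nat.cast_zero, zero_add] at e2
    rw [e1, ← e2, pullFun_openImmersion ι']
  have hEY : ⇑(rY H r j α₁) = Cyc.pullFun (hY' (s := s) j h w₁) (piece r j H).δY' (piece q j H).δY' n
      ⇑(rY H q j α) := funext fun w => by
    show α₁ (ιY s r j w) = _
    rw [hc]
    exact (hcomm (ιY s r j) (hY' (s := s) j h w₁) h (ιY s q j) hpY.w (setupSqY hY q) (setupSqY hY r) hhY hn hhYj
      rY' α hα w).symm
  obtain ⟨b₀, hb₀, hbc, eb⟩ := H₀ (rY H r j α₁) hEY (rY_mem H r j hα₁)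
  rw [resX_glueOp, resY_cl, eb, resX_cl]
  have hβj : ChowOps.cl β₀ hβ₀ = ChowOps.cl (rX H q j β) (rX_mem H q j hβ) := by
    rw [← e₀, ← resX_cl hX H q j _ β hβ, e, resX_glueOp, resY_cl]
  refine cl_eq_cl _ _ ?_
  have hrat := Groth.Agent.S1856.result _ _ _ _ (hsX r) (hsX q) (hX' (s := s) j h w₁) n rX' hhXj (k - p) β₀
    (rX H q j β) hβ₀ (rX_mem H q j hβ) (ratEquiv_of_cl_eq (hsX q) _ _ hβj) b₀ (rX H r j β₁) hbc
    (funext fun v => (hcomm (ιX s r j) (hX' (s := s) j h w₁) h' (ιX s q j) hpX.w (setupSqX hX q) (setupSqX hX r)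
      hh' hn' hhXj rX' β hβ v).symm)
  rwa [show k - p + (n : ℤ) = k + n - p by ring] at hrat

theorem glue_gysin (q r : Bivar.Sq f δX δY) (i : r.Y' ⟶ q.Y') [IsClosedImmersion i] (i' : r.X' ⟶ q.X')
    [IsClosedImmersion i'] (w₁ : i ≫ q.g = r.g) (w₂ : i' ≫ q.f' = r.f' ≫ i) (w₃ : i' ≫ q.g' = r.g')
    (L : q.Y'.Modules) (hL : PicF.IsInvertible L) (σ : L.presheaf.obj (Opposite.op ⊤))
    (hσ : Cyc.IsZeroSchemeOf i L σ) (τ : ((Scheme.Modules.pullback q.f').obj L).presheaf.obj (Opposite.op ⊤))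
    (hτ : Cyc.IsZeroSchemeOf i' ((Scheme.Modules.pullback q.f').obj L) τ) (k : ℤ) :
    Bivar.GysinOK q.δY' r.δY' q.δX' r.δX' i L σ i' ((Scheme.Modules.pullback q.f').obj L) τ
      (glueOp hX hY H d q k) (glueOp hX hY H d r (k - 1)) := by
  intro α hα
  obtain ⟨β, hβ, e⟩ := Bivar.exists_rep (glueOp hX hY H d q k (ChowOps.cl α hα))
  refine ⟨β, hβ, e.symm, fun v hv γ hγc hγ v' hv' => ?_⟩
  have hN : PicF.IsInvertible ((Scheme.Modules.pullback q.f').obj L) := AmpleDevLib.isInvertible_pb q.f' hL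
  have dY : r.δY' = fun w => q.δY' (i w) :=
    deltaCompat_immersion_eq i (deltaCompat_cancel i q.g w₁ q.compatY r.compatY)
  have dX : r.δX' = fun w => q.δX' (i' w) :=
    deltaCompat_immersion_eq i' (deltaCompat_cancel i' q.g' w₃ q.compatX r.compatX)
  let ζ := CycGysLib.restrictCyc i' (CycC1Lib.capCyc (setupSqX hX q) hN β
    (CycGysLib.gysinChoice_ne_zero τ hv'))
  have hζ : ζ ∈ Cyc.Zk r.X' r.δX' (k - 1 - p) := by
    rw [dX, show k - 1 - p = k - p - 1 by ring]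
    exact CycCommLib.restrictCyc_mem_Zk i' (CycCommLib.capCyc_mem_Zk (setupSqX hX q) hN
      (by rw [sub_add_cancel]; exact hβ) _)
  refine ⟨ζ, hζ, fun _ => rfl, ext_resX hX H r fun j => ?_⟩
  haveI := ιY_open q j H
  haveI := ιY_closed q j H
  haveI := ιY_open r j H
  haveI := ιY_closed r j H
  haveI := ιX_open q j H
  haveI := ιX_closed q j H
  haveI := ιX_open r j H
  haveI := ιX_closed r j H
  have hpY := hY'_isPullback (s := s) j i w₁
  have hpX := hX'_isPullback (s := s) j i i' w₁ w₂ w₃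
  haveI : IsClosedImmersion (hY' (s := s) j i w₁) := MorphismProperty.of_isPullback hpY ‹IsClosedImmersion i›
  haveI : IsClosedImmersion (hX' (s := s) j i w₁) := MorphismProperty.of_isPullback hpX ‹IsClosedImmersion i'›
  have hsY : Cyc.IsSetup (piece q j H).Y' (piece q j H).δY' :=
    (CycPushLib.setup_of_closedImmersion (ιY s q j) (setupSqY hY q)).1
  have hsX : Cyc.IsSetup (piece q j H).X' (piece q j H).δX' :=
    (CycPushLib.setup_of_closedImmersion (ιX s q j) (setupSqX hX q)).1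
  let L₀ := (Scheme.Modules.pullback (ιY s q j)).obj L
  have hL₀ : PicF.IsInvertible L₀ := AmpleDevLib.isInvertible_pb _ hL
  let σ₀ := CycGysLib.pbSec (ιY s q j) σ
  have hσ₀ : Cyc.IsZeroSchemeOf (hY' (s := s) j i w₁) L₀ σ₀ := isZeroSchemeOf_square hpY.flip hL hσ
  let N₀ := (Scheme.Modules.pullback (piece q j H).f').obj L₀
  have hN₀ : PicF.IsInvertible N₀ := AmpleDevLib.isInvertible_pb _ hL₀
  let φ : KFlatLib.pb (ιX s q j) ((Scheme.Modules.pullback q.f').obj L) ≅ N₀ :=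
    (sqIso (ιX s q j) q.f' rfl L).symm ≪≫ sqIso (piece q j H).f' (ιY s q j) (ιX_f' s q j).symm L
  let τ₀ := φ.hom.app ⊤ (CycGysLib.pbSec (ιX s q j) τ)
  have hτ₀ : Cyc.IsZeroSchemeOf (hX' (s := s) j i w₁) N₀ τ₀ :=
    isZeroSchemeOf_map φ (isZeroSchemeOf_square hpX.flip hN hτ)
  obtain ⟨β₀, hβ₀, e₀, H₀⟩ := (d j).gysin (piece q j H) (piece r j H) (hY' (s := s) j i w₁) (hX' (s := s) j i w₁)
    (hY'_snd j H i w₁) (hX'_fst j H i w₁) (hX'_snd j H i w₁) L₀ hL₀ σ₀ hσ₀ τ₀ hτ₀ k (rY H q j α) (rY_mem H q j hα)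
  obtain ⟨v₀, hv₀⟩ := exists_sections hL₀
  obtain ⟨u₀, hu₀⟩ := exists_sections hN₀
  let γ₀ := CycGysLib.restrictCyc (hY' (s := s) j i w₁)
    (CycC1Lib.capCyc hsY hL₀ (rY H q j α) (CycGysLib.gysinChoice_ne_zero σ₀ hv₀))
  have eY : (fun w => (piece q j H).δY' (hY' (s := s) j i w₁ w)) = (piece r j H).δY' :=
    (deltaCompat_immersion_eq _
      (deltaCompat_cancel _ _ (hY'_snd j H i w₁) (piece q j H).compatY (piece r j H).compatY)).symm
  have eX : (fun w => (piece q j H).δX' (hX' (s := s) j i w₁ w)) = (piece r j H).δX' :=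
    (deltaCompat_immersion_eq _
      (deltaCompat_cancel _ _ (hX'_snd j H i w₁) (piece q j H).compatX (piece r j H).compatX)).symm
  have hγ₀ : γ₀ ∈ Cyc.Zk (piece r j H).Y' (piece r j H).δY' (k - 1) := by
    rw [← eY]
    exact CycCommLib.restrictCyc_mem_Zk _ (CycCommLib.capCyc_mem_Zk hsY hL₀
      (by rw [sub_add_cancel]; exact rY_mem H q j hα) _)
  obtain ⟨ζ₀, hζ₀, hzc, ez⟩ := H₀ v₀ hv₀ γ₀ (fun _ => rfl) hγ₀ u₀ hu₀
  rw [resX_glueOp, resY_cl, resX_cl]
  have hgenY : ∀ x, CycLimLib.IsGen (ιY s q j) x → (piece q j H).δY' x = q.δY' (ιY s q j x) + (0 : ℤ) :=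
    fun x _ => (add_zero _).symm
  have hgenX : ∀ x, CycLimLib.IsGen (ιX s q j) x → (piece q j H).δX' x = q.δX' (ιX s q j x) + (0 : ℤ) :=
    fun x _ => (add_zero _).symm
  have h1 : ChowOps.cl (rY H r j γ) (rY_mem H r j hγ) = ChowOps.cl γ₀ hγ₀ := by
    refine (cl_eq_cl _ _ (ratEquiv_of_eq eY ?_)).symm
    have := gysin_pull_core (r := (0 : ℤ)) (setupSqY hY q) hsY hgenY hpY.flip hL hσ hL₀ (Iso.refl _) hσ₀
      (k := k - 1) α (by rw [sub_add_cancel]; exact hα) hv hv₀ γ₀ (rY H r j γ) ?_ ?_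
    · rwa [add_zero] at this
    · intro z
      rw [show Cyc.pullFun (ιY s q j) (piece q j H).δY' q.δY' 0 ⇑α = ⇑(rY H q j α) from
        funext fun w => pullFun_openImmersion (ιY s q j) ⇑α w]
      rfl
    · funext w
      rw [show (fun z => (piece q j H).δY' (hY' (s := s) j i w₁ z)) = fun z => r.δY' (ιY s r j z) from eY,
        show (fun w => q.δY' (i w)) = r.δY' from dY.symm, ← funext hγc, pullFun_openImmersion (ιY s r j)]
      rfl
  rw [h1, ez]
  have hβj : ChowOps.cl β₀ hβ₀ = ChowOps.cl (rX H q j β) (rX_mem H q j hβ) := by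
    rw [← e₀, ← resX_cl hX H q j _ β hβ, e, resX_glueOp, resY_cl]
  refine cl_eq_cl _ _ (ratEquiv_of_eq eX ?_)
  have hsr := (CycPushLib.setup_of_closedImmersion (hX' (s := s) j i w₁) hsX).1
  let ζ₁ := CycGysLib.restrictCyc (hX' (s := s) j i w₁)
    (CycC1Lib.capCyc hsX hN₀ (rX H q j β) (CycGysLib.gysinChoice_ne_zero τ₀ hu₀))
  refine CycCommLib.ratEquiv_trans hsr (β := ζ₁) ?_ ?_
  · rw [show k - 1 - p = k - p - 1 by ring]
    exact CycCommLib.gysin_congr hsX hN₀ hτ₀ (by rw [sub_add_cancel]; exact hβ₀)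
      (by rw [sub_add_cancel]; exact rX_mem H q j hβ)
      (by rw [sub_add_cancel]; exact ratEquiv_of_cl_eq hsX _ _ hβj) hu₀ hzc fun _ => rfl
  · have := gysin_pull_core (r := (0 : ℤ)) (setupSqX hX q) hsX hgenX hpX.flip hN hτ hN₀ φ hτ₀
      (k := k - 1 - p) β (by rw [show k - 1 - p + 1 = k - p by ring]; exact hβ) hv' hu₀ ζ₁ (rX H r j ζ) ?_ ?_
    · rwa [add_zero] at this
    · intro z
      rw [show Cyc.pullFun (ιX s q j) (piece q j H).δX' q.δX' 0 ⇑β = ⇑(rX H q j β) from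
        funext fun w => pullFun_openImmersion (ιX s q j) ⇑β w]
      rfl
    · funext w
      rw [show (fun z => (piece q j H).δX' (hX' (s := s) j i w₁ z)) = fun z => r.δX' (ιX s r j z) from eX,
        show (fun w => q.δX' (i' w)) = r.δX' from dX.symm, pullFun_openImmersion (ιX s r j)]
      rfl

/-- The class glued from classes on the pieces. -/
def glueClass : Bivar.Cl p f δX δY where
  op := glueOp hX hY H d
  push q r h _ h' _ w₁ w₂ w₃ k := glue_push hX hY H d q r h h' w₁ w₂ w₃ k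
  pull q r h _ h' _ n hn hn' w₁ w₂ w₃ k := glue_pull hX hY H d q r h h' n hn hn' w₁ w₂ w₃ k
  gysin q r i _ i' _ w₁ w₂ w₃ L hL σ hσ τ hτ k := glue_gysin hX hY H d q r i i' w₁ w₂ w₃ L hL σ hσ τ hτ k

end CycBivLib

end
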