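import Mathlib
import Groth.Prelude.Def_Bivar2
import Groth.Agent.CycBivLib.ClopenCl

/-!
# Bivariant classes decompose along a clopen decomposition of the base
-/

set_option autoImplicit false
set_option linter.style.haveILetI false
set_option linter.unusedSectionVars false

universe u

open AlgebraicGeometry CategoryTheory CategoryTheory.Limits

noncomputable section

namespace CycBivLib

variable {X Y : Scheme.{u}} {δX : X → ℤ} {δY : Y → ℤ} {f : X ⟶ Y} {p : ℤ}

/-- A class commutes with restriction to open and closed pieces. -/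
theorem op_restrict (c : Bivar.Cl p f δX δY) (q r : Bivar.Sq f δX δY) (h : r.Y' ⟶ q.Y') [IsOpenImmersion h]
    [IsClosedImmersion h] (h' : r.X' ⟶ q.X') [IsOpenImmersion h'] [IsClosedImmersion h']
    (w₁ : h ≫ q.g = r.g) (w₂ : h' ≫ q.f' = r.f' ≫ h) (w₃ : h' ≫ q.g' = r.g')
    (k : ℤ) (α : AlgebraicCycle q.Y' ℤ) (hα : α ∈ Cyc.Zk q.Y' q.δY' k) :
    ∃ (β : AlgebraicCycle q.X' ℤ) (hβ : β ∈ Cyc.Zk q.X' q.δX' (k - p))
      (hαr : CycGysLib.restrictCyc h α ∈ Cyc.Zk r.Y' r.δY' k)
      (hβr : CycGysLib.restrictCyc h' β ∈ Cyc.Zk r.X' r.δX' (k - p)),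
      c.op q k (ChowOps.cl α hα) = ChowOps.cl β hβ ∧
        c.op r k (ChowOps.cl (CycGysLib.restrictCyc h α) hαr) = ChowOps.cl (CycGysLib.restrictCyc h' β) hβr := by
  have eY := deltaCompat_immersion_eq h (deltaCompat_cancel h q.g w₁ q.compatY r.compatY)
  have eX := deltaCompat_immersion_eq h' (deltaCompat_cancel h' q.g' w₃ q.compatX r.compatX)
  have hαr : CycGysLib.restrictCyc h α ∈ Cyc.Zk r.Y' r.δY' k :=
    restrictCyc_mem_of_compat h (deltaCompat_cancel h q.g w₁ q.compatY r.compatY) hα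
  have H := c.pull q r h h' 0 (hasRelDim_openImmersion h) (hasRelDim_openImmersion h') w₁ w₂ w₃ k
  rw [Nat.cast_zero, add_zero] at H
  obtain ⟨β, hβ, e₁, H₁⟩ := H α hα
  obtain ⟨β₁, hβ₁, hc, e₂⟩ := H₁ (CycGysLib.restrictCyc h α) (funext fun b => by
    rw [eY]; exact (pullFun_openImmersion h ⇑α b).symm) hαr
  have hb : β₁ = CycGysLib.restrictCyc h' β := Function.locallyFinsuppWithin.ext fun v => by
    rw [hc, eX]; exact pullFun_openImmersion h' ⇑β v
  subst hb
  exact ⟨β, hβ, hαr, hβ₁, e₁, e₂⟩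

/-- Schemes without points have trivial Chow groups. -/
theorem subsingleton_CH {A : Scheme.{u}} [IsEmpty A] (δ : A → ℤ) (k : ℤ) :
    Subsingleton (ChowOps.CH A δ k) := ⟨fun x y => by
  obtain ⟨α, hα, rfl⟩ := Bivar.exists_rep x
  obtain ⟨β, hβ, rfl⟩ := Bivar.exists_rep y
  exact Bivar.cl_congr (Function.locallyFinsuppWithin.ext fun a => isEmptyElim a) _ _⟩

variable {J : Type u} {s : J → Bivar.Sq f δX δY} [LocallyOfFiniteType f]
  (hX : Cyc.IsSetup X δX) (hY : Cyc.IsSetup Y δY) (H : Decomp s)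

theorem resX_op (c : Bivar.Cl p f δX δY) (q : Bivar.Sq f δX δY) (j : J) (k : ℤ) (x : ChowOps.CH q.Y' q.δY' k) :
    resX hX H q j (k - p) (c.op q k x) = (c.res (s j)).op (piece q j H) k (resY hY H q j k x) := by
  obtain ⟨α, hα, rfl⟩ := Bivar.exists_rep x
  haveI := ιY_open q j H
  haveI := ιY_closed q j H
  haveI := ιX_open q j H
  haveI := ιX_closed q j H
  obtain ⟨β, hβ, hαr, hβr, e₁, e₂⟩ := op_restrict c q ((s j).paste (piece q j H)) (ιY s q j) (ιX s q j)
    pullback.condition (ιX_f' s q j) (ιX_g' s q j) k α hα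
  rw [e₁, resX_cl, resY_cl]
  exact e₂.symm

theorem glue_right (d : ∀ j, Bivar.Cl p (s j).f' (s j).δX' (s j).δY') (j : J) :
    (glueClass hX hY H d).res (s j) = d j := by
  refine Bivar.Cl.ext (funext fun t => funext fun k => AddMonoidHom.ext fun x => ?_)
  show glueOp hX hY H d ((s j).paste t) k x = (d j).op t k x
  refine ext_resX hX H ((s j).paste t) fun i => ?_
  rw [resX_glueOp]
  by_cases hij : i = j
  · subst hij
    haveI := H.isOpen i
    haveI := g'_open i H
    obtain ⟨α, hα, rfl⟩ := Bivar.exists_rep x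
    haveI := ιY_open ((s i).paste t) i H
    haveI := ιY_closed ((s i).paste t) i H
    haveI := ιX_open ((s i).paste t) i H
    haveI := ιX_closed ((s i).paste t) i H
    have w₁ : ιY s ((s i).paste t) i ≫ t.g = (piece ((s i).paste t) i H).g := by
      rw [← cancel_mono (s i).g, Category.assoc]
      exact pullback.condition
    have w₃ : ιX s ((s i).paste t) i ≫ t.g' = (piece ((s i).paste t) i H).g' := by
      rw [← cancel_mono (s i).g', Category.assoc]
      exact ιX_g' s ((s i).paste t) i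
    obtain ⟨β, hβ, hαr, hβr, e₁, e₂⟩ := op_restrict (d i) t (piece ((s i).paste t) i H)
      (ιY s ((s i).paste t) i) (ιX s ((s i).paste t) i) w₁ (ιX_f' s ((s i).paste t) i) w₃ k α hα
    rw [resY_cl, e₁]
    exact e₂.trans (resX_cl hX H ((s i).paste t) i (k - p) β hβ).symm
  · haveI : IsEmpty ↥((piece ((s j).paste t) i H).X') := ⟨fun v => hij <| H.disj
      ((piece ((s j).paste t) i H).g ((piece ((s j).paste t) i H).f' v))
      (t.g (ιY s ((s j).paste t) i ((piece ((s j).paste t) i H).f' v))) (by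
        rw [← Scheme.Hom.comp_apply, ← Scheme.Hom.comp_apply _ (s j).g, ← Scheme.Hom.comp_apply _ (t.g ≫ (s j).g)]
        rw [show pullback.snd (t.g ≫ (s j).g) (s i).g ≫ (s i).g = ιY s ((s j).paste t) i ≫ t.g ≫ (s j).g from
          pullback.condition.symm])⟩
    haveI := subsingleton_CH (piece ((s j).paste t) i H).δX' (k - p)
    exact Subsingleton.elim _ _

include hX hY H in
theorem res_bijective : Function.Bijective (fun c : Bivar.Cl p f δX δY => fun j : J => c.res (s j)) := by
  refine ⟨fun c c' h => Bivar.Cl.ext (funext fun q => funext fun k => AddMonoidHom.ext fun x =>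
    ext_resX hX H q fun j => ?_), fun d => ⟨glueClass hX hY H d, funext fun j => glue_right hX hY H d j⟩⟩
  rw [resX_op hX hY H, resX_op hX hY H, show c.res (s j) = c'.res (s j) from congrFun h j]

end CycBivLib

end
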