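import Mathlib
import Groth.Prelude.Def_Bivar2
import Groth.Agent.CycBivLib.C1

/-!
# First Chern classes commute with bivariant classes
-/

set_option autoImplicit false
set_option linter.style.haveILetI false
set_option linter.unusedSectionVars false

universe u

open AlgebraicGeometry CategoryTheory

noncomputable section

namespace CycBivLib

/-- The zero section cuts out the whole scheme. -/
theorem isZeroSchemeOf_zero {Y : Scheme.{u}} {M : Y.Modules} (hM : PicF.IsInvertible M) :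
    Cyc.IsZeroSchemeOf (𝟙 Y) M (0 : M.presheaf.obj (Opposite.op ⊤)) := by
  refine ⟨?_, fun d => ?_⟩
  · ext x
    simp only [Set.mem_range, Set.mem_setOf_eq, map_zero]
    exact iff_of_true ⟨x, rfl⟩ (Submodule.Quotient.mk_zero _)
  · obtain ⟨U, e, hdU, he⟩ := TwistLib.exists_genOn hM d
    refine ⟨M.presheaf.germ U d hdU e, 0, eq_top_iff.2 fun v _ => ?_, ?_, ?_⟩
    · obtain ⟨c, rfl⟩ := (he.genAt hdU).2 v
      exact Submodule.smul_mem _ c (Submodule.mem_span_singleton_self _)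
    · rw [map_zero, zero_smul]
    · rw [Ideal.span_singleton_eq_bot.2 rfl, Scheme.Hom.stalkMap_id]
      exact (RingHom.injective_iff_ker_eq_bot _).1 fun a b h => h

/-- The Gysin sections of the zero section are the fallback sections. -/
theorem gysinChoice_zero {Y : Scheme.{u}} (M : Y.Modules) (w : (ξ : Y) → Cyc.secFibre M ξ) :
    Cyc.gysinChoice M (0 : M.presheaf.obj (Opposite.op ⊤)) w = w := by
  funext ξ
  unfold Cyc.gysinChoice
  rw [if_neg]
  simp only [map_zero, Submodule.Quotient.mk_zero, ne_eq, not_true_eq_false, not_false_eq_true]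

variable {X : Scheme.{u}} {δX : X → ℤ}

theorem comm_cl {X' : Scheme.{u}} {δX' : X' → ℤ} (hX : Cyc.IsSetup X δX) (hX' : Cyc.IsSetup X' δX')
    {f : X' ⟶ X} [LocallyOfFiniteType f] {L : X.Modules}
    {cX : Bivar.OpCl 1 X δX} (hcX : Bivar.IsC1Class L cX) {cX' : Bivar.OpCl 1 X' δX'}
    (hcX' : Bivar.IsC1Class ((Scheme.Modules.pullback f).obj L) cX') {p : ℤ} (c : Bivar.Cl p f δX' δX)
    (s : Bivar.Sq f δX' δX) (k : ℤ) (x : ChowOps.CH s.Y' s.δY' k) :
    c.op s (k - 1) (cX.op ⟨s.Y', s.g, s.lft, s.δY', s.compatY⟩ k x) =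
      Bivar.chCast s.X' s.δX' (sub_right_comm k p 1)
        (cX'.op ⟨s.X', s.g', MorphismProperty.of_isPullback s.isPullback s.lft, s.δX', s.compatX⟩ (k - p)
          (c.op s k x)) := by
  haveI := s.lft
  haveI : LocallyOfFiniteType s.g' := MorphismProperty.of_isPullback s.isPullback s.lft
  have hS := isSetup_of_lft s.g hX s.compatY
  have hS' := isSetup_of_lft s.g' hX' s.compatX
  have hM : PicF.IsInvertible ((Scheme.Modules.pullback s.g).obj L) := pb_invertible s.g hcX.1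
  have hM' : PicF.IsInvertible ((Scheme.Modules.pullback s.g').obj ((Scheme.Modules.pullback f).obj L)) :=
    pb_invertible s.g' hcX'.1
  have hN : PicF.IsInvertible ((Scheme.Modules.pullback s.f').obj ((Scheme.Modules.pullback s.g).obj L)) :=
    AmpleDevLib.isInvertible_pb s.f' hM
  obtain ⟨α, hα, rfl⟩ := Bivar.exists_rep x
  obtain ⟨w, hw⟩ := exists_sections hM
  obtain ⟨w', hw'⟩ := exists_sections hN
  let φ : (Scheme.Modules.pullback s.f').obj ((Scheme.Modules.pullback s.g).obj L) ≅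
      (Scheme.Modules.pullback s.g').obj ((Scheme.Modules.pullback f).obj L) :=
    (sqIso s.f' s.g s.isPullback.w L).symm ≪≫ sqIso s.g' f rfl L
  let γ := CycC1Lib.capCyc hS hM α hw
  have hγ : γ ∈ Cyc.Zk s.Y' s.δY' (k - 1) :=
    CycCommLib.capCyc_mem_Zk hS hM (by rw [sub_add_cancel]; exact hα) hw
  obtain ⟨β, hβ, e, H⟩ := c.gysin s s (𝟙 s.Y') (𝟙 s.X') (Category.id_comp _)
    (by rw [Category.id_comp, Category.comp_id]) (Category.id_comp _) _ hM 0 (isZeroSchemeOf_zero hM) 0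
    (isZeroSchemeOf_zero hN) k α hα
  obtain ⟨ζ, hζ, hc, e'⟩ := H w hw γ (fun d => by rw [gysinChoice_zero]; rfl) hγ w' hw'
  rw [hcX.2 ⟨s.Y', s.g, s.lft, s.δY', s.compatY⟩ k α hα w hw γ rfl hγ, e', e]
  have hζ' : ζ ∈ Cyc.Zk s.X' s.δX' (k - p - 1) := by rw [sub_right_comm]; exact hζ
  rw [hcX'.2 ⟨s.X', s.g', inferInstance, s.δX', s.compatX⟩ (k - p) β hβ
    (fun ξ => fibMap φ.hom ξ (w' ξ)) (fun ξ => fibMap_ne_zero φ (hw' ξ)) ζ ?_ hζ', Bivar.chCast_cl]
  funext d
  rw [hc d, gysinChoice_zero, c1CapFun_fibMap hS' hN φ]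
  rfl

theorem comm_opCl (hX : Cyc.IsSetup X δX) {L : X.Modules} {c : Bivar.OpCl 1 X δX} (hc : Bivar.IsC1Class L c)
    {q : ℤ} (d : Bivar.OpCl q X δX) (s : Bivar.OSq X δX) (k : ℤ) (x : ChowOps.CH s.Y s.δ k) :
    c.op s (k - q) (d.op s k x) =
      Bivar.chCast s.Y s.δ (sub_right_comm k 1 q) (d.op s (k - 1) (c.op s k x)) := by
  have hS := sq_isSetup hX s
  have hM : PicF.IsInvertible ((Scheme.Modules.pullback s.g).obj L) := pb_invertible s.g hc.1
  obtain ⟨α, hα, rfl⟩ := Bivar.exists_rep x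
  obtain ⟨w, hw⟩ := exists_sections hM
  let γ := CycC1Lib.capCyc hS hM α hw
  have hγ : γ ∈ Cyc.Zk s.Y s.δ (k - 1) := CycCommLib.capCyc_mem_Zk hS hM (by rw [sub_add_cancel]; exact hα) hw
  obtain ⟨β, hβ, e, H⟩ := d.gysin s s (𝟙 s.Y) (Category.id_comp _) _ hM 0 (isZeroSchemeOf_zero hM) k α hα
  obtain ⟨ζ, hζ, hz, e'⟩ := H w hw γ (fun y => by rw [gysinChoice_zero]; rfl) hγ
  have hζ' : ζ ∈ Cyc.Zk s.Y s.δ (k - q - 1) := by rw [sub_right_comm]; exact hζ
  rw [e, hc.2 s k α hα w hw γ rfl hγ, e', hc.2 s (k - q) β hβ w hw ζ ?_ hζ', Bivar.chCast_cl]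
  funext y
  rw [hz y, gysinChoice_zero]
  rfl

end CycBivLib

end
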