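import Mathlib
import Groth.Prelude.Def_Bivar2
import Groth.Prelude.Def_W4stkchowintpicEnv
import Groth.Agent.CycBivLib.PushCl
import Groth.Agent.CycBivLib.FlatCl
import Groth.Agent.S6482
import Groth.Agent.S6484

/-!
# Bivariant classes are determined on envelopes
-/

set_option autoImplicit false
set_option linter.style.haveILetI false
set_option linter.unusedSectionVars false

universe u

open AlgebraicGeometry CategoryTheory CategoryTheory.Limits

noncomputable section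

namespace CycBivLib

theorem cl_eq_of_envelope {X Y : Scheme.{u}} {δX : X → ℤ} {δY : Y → ℤ} (hX : Cyc.IsSetup X δX)
    (hY : Cyc.IsSetup Y δY) {f : X ⟶ Y} [LocallyOfFiniteType f] (hδ : Cyc.DeltaCompat f δX δY) {p : ℤ}
    (s₀ : Bivar.Sq f δX δY) [IsProper s₀.g] (hcd : Cyc.IsCompletelyDecomposed s₀.g) (c₁ c₂ : Bivar.Cl p f δX δY)
    (heq : c₁.res s₀ = c₂.res s₀) : c₁ = c₂ := by
  refine Bivar.Cl.ext (funext fun s => funext fun k => AddMonoidHom.ext fun x => ?_)
  obtain ⟨α, hα, rfl⟩ := Bivar.exists_rep x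
  haveI := s.lft
  haveI := s₀.lft
  haveI : LocallyOfFiniteType s₀.f' := MorphismProperty.of_isPullback s₀.isPullback.flip ‹LocallyOfFiniteType f›
  haveI : LocallyOfFiniteType (pullback.fst s₀.g s.g) :=
    MorphismProperty.of_isPullback (IsPullback.of_hasPullback s₀.g s.g).flip s.lft
  obtain ⟨δW, hW⟩ := exists_induced (pullback.fst s₀.g s.g) s₀.δY'
  have hWY : Cyc.DeltaCompat (pullback.snd s₀.g s.g) δW s.δY' :=
    deltaCompat_cancel _ s.g pullback.condition.symm s.compatY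
      (Bivar.deltaCompat_comp _ s₀.g δW s₀.δY' δY hW s₀.compatY)
  haveI : LocallyOfFiniteType (pullback.snd (pullback.fst s₀.g s.g) s₀.f') :=
    MorphismProperty.of_isPullback (IsPullback.of_hasPullback (pullback.fst s₀.g s.g) s₀.f')
      ‹LocallyOfFiniteType (pullback.fst s₀.g s.g)›
  obtain ⟨δV, hV⟩ := exists_induced (pullback.snd (pullback.fst s₀.g s.g) s₀.f') s₀.δX'
  let t : Bivar.Sq s₀.f' s₀.δX' s₀.δY' :=
    ⟨pullback s₀.g s.g, pullback (pullback.fst s₀.g s.g) s₀.f', pullback.fst _ _, pullback.fst _ _,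
      pullback.snd _ _, IsPullback.of_hasPullback _ _, inferInstance, δW, δV, hW, hV⟩
  have w₁ : pullback.snd s₀.g s.g ≫ s.g = (s₀.paste t).g := pullback.condition.symm
  let h' : (s₀.paste t).X' ⟶ s.X' := s.isPullback.lift ((s₀.paste t).f' ≫ pullback.snd s₀.g s.g) (s₀.paste t).g'
    (by rw [Category.assoc, w₁]; exact (s₀.paste t).isPullback.w)
  have w₂ : h' ≫ s.f' = (s₀.paste t).f' ≫ pullback.snd s₀.g s.g := s.isPullback.lift_fst _ _ _
  have w₃ : h' ≫ s.g' = (s₀.paste t).g' := s.isPullback.lift_snd _ _ _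
  haveI : IsProper h' := MorphismProperty.of_isPullback (isPullback_squares w₁ w₂ w₃)
    (inferInstanceAs (IsProper (pullback.snd s₀.g s.g)))
  obtain ⟨γ, hγ, hmap⟩ := Groth.Agent.S6482.result s.Y' (pullback s₀.g s.g) s.δY' δW (isSetup_of_lft s.g hY s.compatY)
    (isSetup_of_lft (pullback.snd s₀.g s.g) (isSetup_of_lft s.g hY s.compatY) hWY) (pullback.snd s₀.g s.g)
    (Groth.Agent.S6484.result Y s.Y' s₀.Y' s₀.g s.g hcd) hWY k α hα
  obtain ⟨β₁, hβ₁, e₁, f₁⟩ := c₁.push s (s₀.paste t) (pullback.snd s₀.g s.g) h' w₁ w₂ w₃ k γ hγ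
  obtain ⟨β₂, hβ₂, e₂, f₂⟩ := c₂.push s (s₀.paste t) (pullback.snd s₀.g s.g) h' w₁ w₂ w₃ k γ hγ
  have hop : c₁.op (s₀.paste t) k = c₂.op (s₀.paste t) k := congrFun (congrFun (congrArg Bivar.Cl.op heq) t) k
  haveI : LocallyOfFiniteType (s₀.paste t).g' :=
    MorphismProperty.of_isPullback (s₀.paste t).isPullback (s₀.paste t).lft
  have hset : Cyc.IsSetup (s₀.paste t).X' (s₀.paste t).δX' := isSetup_of_lft (s₀.paste t).g' hX (s₀.paste t).compatX
  haveI : LocallyOfFiniteType s.g' := MorphismProperty.of_isPullback s.isPullback s.lft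
  have hh' : Cyc.DeltaCompat h' (s₀.paste t).δX' s.δX' :=
    deltaCompat_cancel h' s.g' w₃ s.compatX (s₀.paste t).compatX
  rw [Bivar.cl_congr hmap.symm hα (Bivar.cycMap_mem_Zk _ _ _ _ hγ)]
  refine f₁.trans ((cl_eq_cl _ _ ?_).trans f₂.symm)
  exact CycPushLib.ratEquiv_map hset (isSetup_of_lft s.g' hX s.compatX) h' hh'
    (ratEquiv_of_cl_eq hset hβ₁ hβ₂ (e₁.symm.trans ((congrFun (congrArg DFunLike.coe hop) _).trans e₂)))

end CycBivLib

end
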