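import Mathlib
import Groth.Prelude.Def_Bivar2
import Groth.Agent.CycBivLib.C1
import Groth.Agent.CycBivLib.GysinCore

/-!
# The Gysin class of a zero scheme
-/

set_option autoImplicit false
set_option linter.style.haveILetI false
set_option linter.unusedSectionVars false

universe u

open AlgebraicGeometry CategoryTheory CategoryTheory.Limits

noncomputable section

namespace CycBivLib

theorem ratEquiv_of_delta_eq {Y : Scheme.{u}} {δ δ' : Y → ℤ} (e : δ = δ') {k : ℤ} {α β : AlgebraicCycle Y ℤ}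
    (h : Cyc.RatEquiv δ k α β) : Cyc.RatEquiv δ' k α β := e ▸ h

theorem mem_Zk_of_delta_eq {Y : Scheme.{u}} {δ δ' : Y → ℤ} (e : δ = δ') {k : ℤ} {α : AlgebraicCycle Y ℤ}
    (h : α ∈ Cyc.Zk Y δ k) : α ∈ Cyc.Zk Y δ' k := e ▸ h

variable {D X : Scheme.{u}} {δD : D → ℤ} {δX : X → ℤ} (hX : Cyc.IsSetup X δX) {i : D ⟶ X} [IsClosedImmersion i]
  (hδ : Cyc.DeltaCompat i δD δX) {L : X.Modules} (hL : PicF.IsInvertible L)
  {σ : L.presheaf.obj (Opposite.op ⊤)} (hσ : Cyc.IsZeroSchemeOf i L σ)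

theorem isClosedImmersion_sq (s : Bivar.Sq i δD δX) : IsClosedImmersion s.f' :=
  MorphismProperty.of_isPullback s.isPullback.flip ‹IsClosedImmersion i›

theorem isSetup_sqY {X Y : Scheme.{u}} {f : X ⟶ Y} {δX : X → ℤ} {δY : Y → ℤ} (hY : Cyc.IsSetup Y δY)
    (s : Bivar.Sq f δX δY) : Cyc.IsSetup s.Y' s.δY' :=
  haveI := s.lft
  isSetup_of_lft s.g hY s.compatY

include hδ in
theorem delta_sqX (s : Bivar.Sq i δD δX) : (fun d => s.δY' (s.f' d)) = s.δX' := by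
  haveI := isClosedImmersion_sq s
  exact (deltaCompat_immersion_eq s.f' (deltaCompat_cancel s.f' s.g s.isPullback.w s.compatY
    (Bivar.deltaCompat_comp s.g' i s.δX' δD δX s.compatX hδ))).symm

include hX hδ in
theorem isSetup_sqX (s : Bivar.Sq i δD δX) : Cyc.IsSetup s.X' s.δX' := by
  haveI := isClosedImmersion_sq s
  rw [← delta_sqX hδ s]
  exact (CycPushLib.setup_of_closedImmersion s.f' (isSetup_sqY hX s)).1

/-- The representative of the Gysin map. -/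
def gysRep (s : Bivar.Sq i δD δX) (α : AlgebraicCycle s.Y' ℤ) : AlgebraicCycle s.X' ℤ :=
  haveI := isClosedImmersion_sq s
  CycGysLib.restrictCyc s.f' (CycC1Lib.capCyc (isSetup_sqY hX s) (pb_invertible s.g hL) α
    (CycGysLib.gysinChoice_ne_zero (CycGysLib.pbSec s.g σ) (exists_sections (pb_invertible s.g hL)).choose_spec))

/-- The chosen fallback sections. -/
def gysSec (s : Bivar.Sq i δD δX) : (ξ : s.Y') → Cyc.secFibre ((Scheme.Modules.pullback s.g).obj L) ξ :=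
  (exists_sections (pb_invertible s.g hL)).choose

theorem gysSec_ne_zero (s : Bivar.Sq i δD δX) (ξ : s.Y') : gysSec hL s ξ ≠ 0 :=
  (exists_sections (pb_invertible s.g hL)).choose_spec ξ

include hδ in
theorem gysRep_mem (s : Bivar.Sq i δD δX) {k : ℤ} {α : AlgebraicCycle s.Y' ℤ} (hα : α ∈ Cyc.Zk s.Y' s.δY' k) :
    gysRep hX hL (σ := σ) s α ∈ Cyc.Zk s.X' s.δX' (k - 1) := by
  haveI := isClosedImmersion_sq s
  exact mem_Zk_of_delta_eq (delta_sqX hδ s) (CycCommLib.restrictCyc_mem_Zk s.f'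
    (CycCommLib.capCyc_mem_Zk (isSetup_sqY hX s) (pb_invertible s.g hL) (by rw [sub_add_cancel]; exact hα) _))

include hL hσ in
theorem zeroScheme_sq (s : Bivar.Sq i δD δX) :
    Cyc.IsZeroSchemeOf s.f' ((Scheme.Modules.pullback s.g).obj L) (CycGysLib.pbSec s.g σ) :=
  isZeroSchemeOf_square s.isPullback hL hσ

/-- The Gysin map on Chow groups. -/
def gysOp (s : Bivar.Sq i δD δX) (k : ℤ) : ChowOps.CH s.Y' s.δY' k →+ ChowOps.CH s.X' s.δX' (k - 1) :=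
  descend (AddMonoidHom.mk' (fun a => ChowOps.cl (gysRep hX hL (σ := σ) s a.1) (gysRep_mem hX hδ hL s a.2))
    fun a b => by
      rw [← Bivar.cl_add]
      exact Bivar.cl_congr (Function.locallyFinsuppWithin.ext fun d =>
        congrFun (Bivar.c1CapFun_add s.δY' _ a.1 b.1 _) (s.f' d)) _ _)
    fun a ha => by
      refine (cl_eq_cl _ (ChowOps.zk s.X' s.δX' (k - 1)).zero_mem ?_).trans Bivar.cl_zero
      show Cyc.RatEquivZero s.δX' (k - 1) (_ - 0)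
      rw [sub_zero, ← delta_sqX hδ s]
      haveI := isClosedImmersion_sq s
      exact CycCommLib.gysin_ratEquivZero (isSetup_sqY hX s) (pb_invertible s.g hL) (zeroScheme_sq hL hσ s)
        (by rw [sub_add_cancel]; exact a.2) (by rw [sub_add_cancel]; exact ha) (gysSec_ne_zero hL s)
        (fun _ => rfl)

theorem gysOp_cl (s : Bivar.Sq i δD δX) (k : ℤ) (α : AlgebraicCycle s.Y' ℤ) (hα : α ∈ Cyc.Zk s.Y' s.δY' k) :
    gysOp hX hδ hL hσ s k (ChowOps.cl α hα) = ChowOps.cl (gysRep hX hL (σ := σ) s α) (gysRep_mem hX hδ hL s hα) := rfl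

theorem isPullback_of_squares {s t : Bivar.Sq i δD δX} {h : t.Y' ⟶ s.Y'} {h' : t.X' ⟶ s.X'}
    (w₁ : h ≫ s.g = t.g) (w₂ : h' ≫ s.f' = t.f' ≫ h) (w₃ : h' ≫ s.g' = t.g') :
    IsPullback t.f' h' h s.f' := by
  have ht := t.isPullback
  rw [← w₁, ← w₃] at ht
  exact IsPullback.of_bot ht w₂.symm s.isPullback

theorem gys_push (s t : Bivar.Sq i δD δX) (h : t.Y' ⟶ s.Y') [IsProper h] (h' : t.X' ⟶ s.X') [IsProper h']
    (w₁ : h ≫ s.g = t.g) (w₂ : h' ≫ s.f' = t.f' ≫ h) (w₃ : h' ≫ s.g' = t.g') (k : ℤ) :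
    Bivar.PushOK t.δY' t.δX' s.δY' s.δX' h h' (gysOp hX hδ hL hσ t k) (gysOp hX hδ hL hσ s k) := by
  intro α hα
  haveI := isClosedImmersion_sq s
  haveI := isClosedImmersion_sq t
  refine ⟨gysRep hX hL (σ := σ) t α, gysRep_mem hX hδ hL t hα, gysOp_cl hX hδ hL hσ t k α hα, ?_⟩
  rw [gysOp_cl]
  refine (cl_eq_cl _ _ (ratEquiv_of_delta_eq (delta_sqX hδ s) ?_)).symm
  rw [← delta_sqX hδ t, ← delta_sqX hδ s]
  exact gysin_push_core (isSetup_sqY hX s) (isSetup_sqY hX t)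
    (deltaCompat_cancel h s.g w₁ s.compatY t.compatY) (isPullback_of_squares w₁ w₂ w₃) (pb_invertible s.g hL)
    (zeroScheme_sq hL hσ s) (pb_invertible t.g hL) (sqIso h s.g w₁ L).symm (zeroScheme_sq hL hσ t) α
    (by rw [sub_add_cancel]; exact hα) (gysSec_ne_zero hL s) (gysSec_ne_zero hL t) _ (fun _ => rfl) _
    fun _ => rfl

theorem gys_pull (s t : Bivar.Sq i δD δX) (h : t.Y' ⟶ s.Y') [Flat h] (h' : t.X' ⟶ s.X') [Flat h'] (r : ℕ)
    (hr : Cyc.HasRelDim h r) (hr' : Cyc.HasRelDim h' r)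
    (w₁ : h ≫ s.g = t.g) (w₂ : h' ≫ s.f' = t.f' ≫ h) (w₃ : h' ≫ s.g' = t.g') (k : ℤ) :
    Bivar.PullOK s.δY' s.δX' t.δY' t.δX' h h' (r : ℤ) (gysOp hX hδ hL hσ s k) (gysOp hX hδ hL hσ t (k + r)) := by
  intro α hα
  haveI := isClosedImmersion_sq s
  haveI := isClosedImmersion_sq t
  refine ⟨gysRep hX hL (σ := σ) s α, gysRep_mem hX hδ hL s hα, gysOp_cl hX hδ hL hσ s k α hα,
    fun α₁ hc hα₁ => ?_⟩
  haveI := t.lft
  haveI : LocallyOfFiniteType (h ≫ s.g) := w₁ ▸ t.lft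
  haveI : LocallyOfFiniteType h := locallyOfFiniteType_of_comp h s.g
  have hp := isPullback_of_squares w₁ w₂ w₃
  haveI : LocallyOfFiniteType h' := MorphismProperty.of_isPullback hp ‹LocallyOfFiniteType h›
  have hδh := deltaCompat_cancel h s.g w₁ s.compatY t.compatY
  have hgen : ∀ x, CycLimLib.IsGen h x → t.δY' x = s.δY' (h x) + (r : ℤ) :=
    fun x hx => CycLimLib.delta_eq_of_gen h hδh hr hx
  have hδh' : Cyc.DeltaCompat h' t.δX' s.δX' := by
    rw [← delta_sqX hδ s, ← delta_sqX hδ t]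
    exact deltaCompat_square hp.w.symm hδh
  have hgen' : ∀ x, CycLimLib.IsGen h' x → t.δX' x = s.δX' (h' x) + (r : ℤ) :=
    fun x hx => CycLimLib.delta_eq_of_gen h' hδh' hr' hx
  let β₁ := CycC1Lib.pullCyc h' (isSetup_sqX hX hδ t) hgen' (gysRep hX hL (σ := σ) s α)
  have hmem : β₁ ∈ Cyc.Zk t.X' t.δX' (k + r - 1) := by
    rw [show k + (r : ℤ) - 1 = k - 1 + r by ring]
    exact CycC1Lib.pullCyc_mem_Zk h' _ hgen' (gysRep_mem hX hδ hL s hα)
  refine ⟨β₁, hmem, rfl, ?_⟩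
  rw [gysOp_cl]
  refine cl_eq_cl _ _ (ratEquiv_of_delta_eq (delta_sqX hδ t) ?_)
  rw [show k + (r : ℤ) - 1 = k - 1 + r by ring]
  refine gysin_pull_core (isSetup_sqY hX s) (isSetup_sqY hX t) hgen hp (pb_invertible s.g hL)
    (zeroScheme_sq hL hσ s) (pb_invertible t.g hL) (sqIso h s.g w₁ L).symm (zeroScheme_sq hL hσ t) α
    (by rw [sub_add_cancel]; exact hα) (gysSec_ne_zero hL s) (gysSec_ne_zero hL t) _ _ ?_ ?_
  · intro z
    rw [← hc]
    rfl
  · rw [delta_sqX hδ t, delta_sqX hδ s]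
    rfl

theorem gys_gysin (s t : Bivar.Sq i δD δX) (i' : t.Y' ⟶ s.Y') [IsClosedImmersion i'] (j : t.X' ⟶ s.X')
    [IsClosedImmersion j] (w₁ : i' ≫ s.g = t.g) (w₂ : j ≫ s.f' = t.f' ≫ i') (w₃ : j ≫ s.g' = t.g')
    (M : s.Y'.Modules) (hM : PicF.IsInvertible M) (ρ : M.presheaf.obj (Opposite.op ⊤))
    (hρ : Cyc.IsZeroSchemeOf i' M ρ) (τ : ((Scheme.Modules.pullback s.f').obj M).presheaf.obj (Opposite.op ⊤))
    (hτ : Cyc.IsZeroSchemeOf j ((Scheme.Modules.pullback s.f').obj M) τ) (k : ℤ) :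
    Bivar.GysinOK s.δY' t.δY' s.δX' t.δX' i' M ρ j ((Scheme.Modules.pullback s.f').obj M) τ
      (gysOp hX hδ hL hσ s k) (gysOp hX hδ hL hσ t (k - 1)) := by
  intro α hα
  haveI := isClosedImmersion_sq s
  haveI := isClosedImmersion_sq t
  refine ⟨gysRep hX hL (σ := σ) s α, gysRep_mem hX hδ hL s hα, gysOp_cl hX hδ hL hσ s k α hα,
    fun v hv γ hγc hγ w' hw' => ?_⟩
  have hp := (isPullback_of_squares w₁ w₂ w₃).flip
  have eY := deltaCompat_immersion_eq i' (deltaCompat_cancel i' s.g w₁ s.compatY t.compatY)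
  have hcond : ∀ z, s.f' (j z) = i' (t.f' z) := fun z => by
    rw [← Scheme.Hom.comp_apply, hp.w, Scheme.Hom.comp_apply]
  have eX : (fun z => s.δY' (s.f' (j z))) = t.δX' := by
    rw [← delta_sqX hδ t, eY]
    exact funext fun z => congrArg s.δY' (hcond z)
  let ζ := CycGysLib.restrictCyc j (CycC1Lib.capCyc (isSetup_sqX hX hδ s) (AmpleDevLib.isInvertible_pb s.f' hM)
    (gysRep hX hL (σ := σ) s α) (CycGysLib.gysinChoice_ne_zero τ hw'))
  have hζ : ζ ∈ Cyc.Zk t.X' t.δX' (k - 1 - 1) := by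
    refine mem_Zk_of_delta_eq ?_ (CycCommLib.restrictCyc_mem_Zk j (CycCommLib.capCyc_mem_Zk
      (isSetup_sqX hX hδ s) (AmpleDevLib.isInvertible_pb s.f' hM)
      (by rw [sub_add_cancel]; exact gysRep_mem hX hδ hL s hα) _))
    rw [← eX, ← delta_sqX hδ s]
  refine ⟨ζ, hζ, fun _ => rfl, ?_⟩
  rw [gysOp_cl]
  refine (cl_eq_cl _ _ (ratEquiv_of_delta_eq eX ?_)).symm
  rw [show k - 1 - 1 = k - 2 by ring]
  refine gysin_gysin_core (isSetup_sqY hX s) (pb_invertible s.g hL) hM (zeroScheme_sq hL hσ s) hρ hp hτ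
    (pb_invertible t.g hL) (sqIso i' s.g w₁ L).symm (zeroScheme_sq hL hσ t) α hα (gysSec_ne_zero hL s) hv hw'
    (gysSec_ne_zero hL t) _ rfl γ (mem_Zk_of_delta_eq eY hγ) hγc ζ _ ?_ ?_
  · intro z
    rw [delta_sqX hδ s]
    rfl
  · intro z
    rw [← eY]
    rfl

/-- The Gysin class. -/
def gysClass : Bivar.Cl 1 i δD δX where
  op := gysOp hX hδ hL hσ
  push s t h _ h' _ w₁ w₂ w₃ k := gys_push hX hδ hL hσ s t h h' w₁ w₂ w₃ k
  pull s t h _ h' _ r hr hr' w₁ w₂ w₃ k := gys_pull hX hδ hL hσ s t h h' r hr hr' w₁ w₂ w₃ k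
  gysin s t i' _ j _ w₁ w₂ w₃ M hM ρ hρ τ hτ k := gys_gysin hX hδ hL hσ s t i' j w₁ w₂ w₃ M hM ρ hρ τ hτ k

theorem isGysinClass_gysClass : Bivar.IsGysinClass i L σ (gysClass hX hδ hL hσ) := by
  refine ⟨hL, hσ, hδ, fun s τ hτ k α hα w hw γ hγc hγ => ?_⟩
  haveI := isClosedImmersion_sq s
  refine (gysOp_cl hX hδ hL hσ s k α hα).trans (cl_eq_cl _ _ (ratEquiv_of_delta_eq (delta_sqX hδ s) ?_))
  exact gysin_indep (isSetup_sqY hX s) (pb_invertible s.g hL) (pb_invertible s.g hL) (Iso.refl _)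
    (zeroScheme_sq hL hσ s) hτ α (by rw [sub_add_cancel]; exact hα) (gysSec_ne_zero hL s) hw _ γ
    (fun _ => rfl) hγc

end CycBivLib

end
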